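import Mathlib
import Cfsg.Agent.Inv.Ess9
import Cfsg.Agent.PGrp.Sect2

/-! Weights of automorphisms on sections of prime order. -/

set_option autoImplicit false
set_option linter.unusedSectionVars false

namespace Cfsg.Agent.SR3

open Subgroup Cfsg.Agent.Fusion Cfsg.Agent.Fusion.FS Cfsg.Agent.Inv.Es
open scoped commutatorElement

variable {G : Type*} [Group G] {p : ℕ} [hp : Fact p.Prime] [Finite G]

theorem trv_comm {X Y : Subgroup G} {g x : G} (h : g ∈ trv X Y) (hx : x ∈ X) : ⁅x, g⁆ ∈ Y :=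
  mem_of_eq (h.2 x⁻¹ (inv_mem hx)) (by rw [commutatorElement_def]; group)

theorem mem_trv_comm {X Y : Subgroup G} {g : G} (hg : g ∈ nz Y) (h : ∀ x ∈ X, ⁅x, g⁆ ∈ Y) : g ∈ trv X Y :=
  ⟨hg, fun x hx => mem_of_eq (h x⁻¹ (inv_mem hx)) (by rw [commutatorElement_def]; group)⟩

theorem csym {Y : Subgroup G} {x g : G} (h : ⁅x, g⁆ ∈ Y) : ⁅g, x⁆ ∈ Y := PGrp.commutator_symm_mem h

universe u in
theorem exq {G : Type u} [Group G] (Y : Subgroup G) :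
    ∃ (Q : Type u) (_ : Group Q) (π : nz Y →* Q), ∀ a : nz Y, π a = 1 ↔ (a : G) ∈ Y :=
  ⟨_, _, QuotientGroup.mk' (Y.subgroupOf (nz Y)), fun _ => QuotientGroup.eq_one_iff _⟩

theorem q_comm {Y : Subgroup G} {Q : Type*} [Group Q] {π : nz Y →* Q} (h : ∀ a : nz Y, π a = 1 ↔ (a : G) ∈ Y)
    {a b : nz Y} (e : ⁅(a : G), (b : G)⁆ ∈ Y) : Commute (π a) (π b) := by
  rw [← commutatorElement_eq_one_iff_commute, ← map_commutatorElement, h]; exact e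

theorem q_cg {Y : Subgroup G} {Q : Type*} [Group Q] {π : nz Y →* Q} (h : ∀ a : nz Y, π a = 1 ↔ (a : G) ∈ Y)
    {a b : nz Y} : π a = π b ↔ Cg Y a b := by
  rw [← inv_mul_eq_one, ← map_inv, ← map_mul, h]; rfl

theorem cg_comm_wt {Y : Subgroup G} {a b a1 b1 t : G} {i j : ℤ} (ha : a ∈ nz Y) (hb : b ∈ nz Y) (ha1 : a1 ∈ nz Y)
    (hb1 : b1 ∈ nz Y) (e1 : t * a * t⁻¹ = a ^ i * a1) (e2 : t * b * t⁻¹ = b ^ j * b1) (h1 : ⁅a, ⁅a, b⁆⁆ ∈ Y)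
    (h2 : ⁅b, ⁅a, b⁆⁆ ∈ Y) (h3 : ⁅a1, b⁆ ∈ Y) (h4 : ⁅a1, b1⁆ ∈ Y) (h5 : ⁅a, b1⁆ ∈ Y) :
    Cg Y (⁅a, b⁆ ^ (i * j)) (t * ⁅a, b⁆ * t⁻¹) := by
  have e : t * ⁅a, b⁆ * t⁻¹ = ⁅a ^ i * a1, b ^ j * b1⁆ := by
    rw [← e1, ← e2, commutatorElement_def, commutatorElement_def]; group
  rw [e]
  obtain ⟨Q, _, π, h⟩ := exq Y
  lift a to nz Y using ha
  lift b to nz Y using hb
  lift a1 to nz Y using ha1
  lift b1 to nz Y using hb1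
  have c1 := q_comm h (a := a) (b := ⁅a, b⁆) h1
  have c2 := q_comm h (a := b) (b := ⁅a, b⁆) h2
  have c3 := q_comm h h3
  have c4 := q_comm h h4
  have c5 := q_comm h h5
  rw [map_commutatorElement] at c1 c2
  refine (q_cg h (a := ⁅a, b⁆ ^ (i * j)) (b := ⁅a ^ i * a1, b ^ j * b1⁆)).1 ?_
  simp only [map_zpow, map_commutatorElement, map_mul]
  generalize π a = A at *
  generalize π b = B at *
  generalize π a1 = A1 at *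
  generalize π b1 = B1 at *
  have d1 : Commute A1 (B ^ j * B1) := (c3.zpow_right j).mul_right c4
  have d2 : Commute (A ^ i) B1 := c5.zpow_left i
  have d3 : ⁅A ^ i * A1, B ^ j * B1⁆ = ⁅A ^ i, B ^ j⁆ := by
    rw [commutatorElement_def, commutatorElement_def, mul_assoc (A ^ i), d1.eq]
    calc _ = A ^ i * B ^ j * (B1 * (A ^ i)⁻¹) * B1⁻¹ * (B ^ j)⁻¹ := by group
      _ = _ := by rw [← d2.inv_left.eq]; group
  have d4 := PGrp.commutator_zpow_left_of_commute c1 i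
  rw [d3, PGrp.commutator_zpow_right_of_commute (by rw [d4]; exact c2.zpow_right i), d4, zpow_mul]

theorem cg_mul_pow (hp2 : p ≠ 2) {Y : Subgroup G} {a b : G} (ha : a ∈ nz Y) (hb : b ∈ nz Y) (h1 : ⁅a, ⁅b, a⁆⁆ ∈ Y)
    (h2 : ⁅b, ⁅b, a⁆⁆ ∈ Y) (h3 : ⁅b, a⁆ ^ p ∈ Y) : Cg Y (a ^ p * b ^ p) ((a * b) ^ p) := by
  obtain ⟨Q, _, π, h⟩ := exq Y
  lift a to nz Y using ha
  lift b to nz Y using hb
  have c1 := q_comm h (a := a) (b := ⁅b, a⁆) h1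
  have c2 := q_comm h (a := b) (b := ⁅b, a⁆) h2
  have c3 := (h (⁅b, a⁆ ^ p)).2 h3
  rw [map_pow] at c3
  rw [map_commutatorElement] at c1 c2 c3
  refine (q_cg h (a := a ^ p * b ^ p) (b := (a * b) ^ p)).1 ?_
  simp only [map_pow, map_mul]
  exact (PGrp.mul_pow_of_commute_of_odd (hp.out.odd_of_ne_two hp2) c1 c2 c3).symm

/-- `t` acts on `X/Y` as the `m`-th power map -/
def Wt (t : G) (X Y : Subgroup G) (m : ℤ) : Prop := ∀ w ∈ X, Cg Y (w ^ m) (t * w * t⁻¹)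

theorem wt_of_one {X Y : Subgroup G} {t x : G} {m : ℤ} (hYX : Y ≤ X) (hn : X ≤ nz Y) (hi : Y.relIndex X = p)
    (ht : t ∈ nz Y) (hx : x ∈ X) (hxY : x ∉ Y) (h : Cg Y (x ^ m) (t * x * t⁻¹)) : Wt t X Y m := by
  have hc := PGrp.commutator_le_of_relIndex_prime hp.out hYX hn hi
  have : Y ⊔ zpowers x ≤ wt t m hc hn := sup_le (fun y hy => ⟨hYX hy, Cg.of_mem (zpow_mem hy m) (conj_mem_of_nz ht hy)⟩)
    (zpowers_le.2 ⟨hx, h⟩)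
  rw [PGrp.sup_zpowers_eq_of_relIndex_prime hp.out hi hYX hx hxY] at this
  exact fun w hw => (this hw).2

theorem exists_notMem {X Y : Subgroup G} (hi : Y.relIndex X = p) : ∃ x ∈ X, x ∉ Y :=
  exists_notMem_of_relIndex (p := p) (n := 0) (by simpa using hi)

theorem exists_wt {X Y : Subgroup G} {t : G} (hYX : Y ≤ X) (hn : X ≤ nz Y) (hi : Y.relIndex X = p)
    (ht : t ∈ nz Y) (ht' : t ∈ nz X) : ∃ m, Wt t X Y m := by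
  obtain ⟨x, hx, hxY⟩ := exists_notMem hi
  obtain ⟨m, hm⟩ := exists_wt_of_prime hYX hn hi ht' hx hxY
  exact ⟨m, wt_of_one hYX hn hi ht hx hxY hm⟩

theorem wt_one {X Y : Subgroup G} {t : G} (h : t ∈ trv X Y) : Wt t X Y 1 := fun w hw => by
  simpa using trv_cg h hw

theorem dvd_of_cg {Y : Subgroup G} {w s : G} {i j : ℤ} (h : w ^ p ∈ Y) (hw : w ∉ Y) (h1 : Cg Y (w ^ i) s)
    (h2 : Cg Y (w ^ j) s) : (p : ℤ) ∣ j - i := (cg_zpow_iff hp.out h hw).1 (h1.trans h2.symm)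

theorem bil {P X X1 B B1 Z Y : Subgroup G} {t : G} {i j k : ℤ} (hP : P ≤ nz Y) (hX : X ≤ P) (hB : B ≤ P)
    (hX1 : X1 ≤ X) (hB1 : B1 ≤ B) (w1 : Wt t X X1 i) (w2 : Wt t B B1 j) (w3 : Wt t Z Y k)
    (hZ : ∀ z ∈ Z, ∀ g ∈ P, ⁅z, g⁆ ∈ Y) (hpw : ∀ z ∈ Z, z ^ p ∈ Y) (h1 : ∀ a ∈ X1, ∀ b ∈ B, ⁅a, b⁆ ∈ Y)
    (h2 : ∀ a ∈ X, ∀ b ∈ B1, ⁅a, b⁆ ∈ Y) {a b : G} (ha : a ∈ X) (hb : b ∈ B) (hab : ⁅a, b⁆ ∈ Z)
    (hn : ⁅a, b⁆ ∉ Y) : (p : ℤ) ∣ k - i * j := by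
  obtain ⟨a1, ha1, e1⟩ := (w1 a ha).exists
  obtain ⟨b1, hb1, e2⟩ := (w2 b hb).exists
  exact dvd_of_cg (hpw _ hab) hn (cg_comm_wt (hP (hX ha)) (hP (hB hb)) (hP (hX (hX1 ha1))) (hP (hB (hB1 hb1))) e1 e2
    (csym (hZ _ hab _ (hX ha))) (csym (hZ _ hab _ (hB hb))) (h1 _ ha1 _ hb) (h1 _ ha1 _ (hB1 hb1)) (h2 _ ha _ hb1))
    (w3 _ hab)

theorem comm_of_prime {P X Y : Subgroup G} (hP : IsPGroup p P) (hYX : Y ≤ X) (hXP : X ≤ P) (hi : Y.relIndex X = p)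
    (h1 : P ≤ nz X) (h2 : P ≤ nz Y) : ∀ x ∈ X, ∀ g ∈ P, ⁅x, g⁆ ∈ Y := fun _ hx _ hg =>
  trv_comm (mem_trv_of_pg hYX (hXP.trans h2) hi.dvd (h1 hg) (h2 hg) (isPGroup_iff.1 hP _ hg)) hx

theorem pow_of_prime {X Y : Subgroup G} (hn : X ≤ nz Y) (hi : Y.relIndex X = p) : ∀ x ∈ X, x ^ p ∈ Y :=
  fun _ hx => PGrp.pow_mem_of_relIndex_eq hn hi hx

theorem cg_swap {Y : Subgroup G} {x y : G} (hx : x ∈ nz Y) (hy : y ∈ nz Y) (h : Cg Y x (y * x * y⁻¹)) :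
    Cg Y y (x * y * x⁻¹) := mem_of_eq (conj_mem_of_nz' (mul_mem hy (inv_mem hx)) (inv_mem h)) (by group)

/-- elements of `P` whose commutators with `X` lie in `Y` -/
theorem comm_sup {P X Y : Subgroup G} {x g : G} (hP : P ≤ nz Y) (hX : X ≤ P) (hx : x ∈ P) (hg : g ∈ P)
    (h1 : ∀ a ∈ X, ⁅a, g⁆ ∈ Y) (h2 : ⁅x, g⁆ ∈ Y) : ∀ a ∈ X ⊔ zpowers x, ⁅a, g⁆ ∈ Y := fun _ ha =>
  trv_comm (mem_trv_sup (mem_trv_comm (hP hg) h1) (mem_trv_zpowers (hP hg) (hP hx)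
    (cg_swap (hP hg) (hP hx) (show g⁻¹ * (x * g * x⁻¹) ∈ Y from mem_of_eq (conj_mem_of_nz' (hP hg) h2)
      (by rw [commutatorElement_def]; group)))) (hX.trans hP) (zpowers_le.2 (hP hx))) ha

theorem comm_sup_ab {P X Y : Subgroup G} {x : G} (hP : P ≤ nz Y) (hX : X ≤ P) (hx : x ∈ P)
    (h1 : ∀ a ∈ X, ∀ b ∈ X, ⁅a, b⁆ ∈ Y) (h2 : ∀ a ∈ X, ⁅a, x⁆ ∈ Y) :
    ∀ a ∈ X ⊔ zpowers x, ∀ b ∈ X ⊔ zpowers x, ⁅a, b⁆ ∈ Y := fun a ha b hb => by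
  have hle : X ⊔ zpowers x ≤ P := sup_le hX (zpowers_le.2 hx)
  refine comm_sup hP hX hx (hle hb) (fun c hc => csym (comm_sup hP hX hx (hX hc) (fun d hd => h1 d hd c hc)
    (csym (h2 c hc)) b hb)) (csym (comm_sup hP hX hx hx h2 (by simp) b hb)) a ha

theorem pow_sup_ab {P X Y : Subgroup G} {x : G} (hP : P ≤ nz Y) (hX : X ≤ P) (hx : x ∈ P) (hxX : x ∈ nz X)
    (h : ∀ a ∈ X ⊔ zpowers x, ∀ b ∈ X ⊔ zpowers x, ⁅a, b⁆ ∈ Y) (h1 : ∀ a ∈ X, a ^ p ∈ Y) (h2 : x ^ p ∈ Y) :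
    ∀ a ∈ X ⊔ zpowers x, a ^ p ∈ Y := fun a ha => by
  obtain ⟨c, hc, k, rfl⟩ := (PGrp.mem_sup_zpowers hxX).1 ha
  have := cg_mul_zpow (commutator_le.2 h) ((sup_le hX (zpowers_le.2 hx)).trans hP) (mem_sup_left hc)
    (mem_sup_right (zpow_mem (mem_zpowers x) k)) (p : ℤ)
  simp only [zpow_natCast] at this
  refine this.symm.mem le_rfl (mul_mem (h1 c hc) ?_)
  rw [← zpow_natCast, ← zpow_mul, mul_comm, zpow_mul, zpow_natCast]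
  exact zpow_mem h2 k

/-- sections of `P` have rank at most three -/
def R3 (p : ℕ) (P : Subgroup G) : Prop :=
  ∀ W K : Subgroup G, K ≤ P → W ≤ K → K ≤ nz W → (∀ a ∈ K, ∀ b ∈ K, ⁅a, b⁆ ∈ W) → (∀ x ∈ K, x ^ p ∈ W) →
    W.relIndex K ≤ p ^ 3

theorem R3.mono {P Q : Subgroup G} (h : R3 p P) (hle : Q ≤ P) : R3 p Q := fun W K h1 => h W K (h1.trans hle)

theorem R3.false {P W X : Subgroup G} (h : R3 p P) {x : G} (hP : P ≤ nz W) (hX : X ≤ P) (hx : x ∈ P) (hxX : x ∈ nz X)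
    (hWX : W ≤ X) (hi : W.relIndex X = p ^ 3) (hn : x ∉ X) (h1 : ∀ a ∈ X, ∀ b ∈ X, ⁅a, b⁆ ∈ W)
    (h2 : ∀ a ∈ X, ⁅a, x⁆ ∈ W) (h3 : ∀ a ∈ X, a ^ p ∈ W) (h4 : x ^ p ∈ W) : False := by
  have hc := comm_sup_ab hP hX hx h1 h2
  have hle : X ⊔ zpowers x ≤ P := sup_le hX (zpowers_le.2 hx)
  have := h W _ hle (hWX.trans le_sup_left) (hle.trans hP) hc (pow_sup_ab hP hX hx hxX hc h3 h4)
  rw [← relIndex_mul_relIndex W X _ hWX le_sup_left, hi, PGrp.relIndex_sup_zpowers hp.out hxX (hWX h4) hn,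
    ← pow_succ, Nat.pow_le_pow_iff_right hp.out.one_lt] at this
  omega

theorem rel3 {A B C D : Subgroup G} (h1 : A ≤ B) (h2 : B ≤ C) (h3 : C ≤ D) (i1 : A.relIndex B = p)
    (i2 : B.relIndex C = p) (i3 : C.relIndex D = p) : A.relIndex D = p ^ 3 := by
  rw [← relIndex_mul_relIndex A C D (h1.trans h2) h3, ← relIndex_mul_relIndex A B C h1 h2, i1, i2, i3]; ring

/-- The final contradiction in the quadratic case. -/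
theorem final {P N M C Z Y : Subgroup G} {t : G} {m1 m2 m3 m4 : ℤ} (hP : IsPGroup p P) (hs : R3 p P)
    (l1 : N ≤ P) (l2 : M ≤ N) (l3 : C ≤ M) (l4 : Z ≤ C) (l5 : Y ≤ Z) (i1 : N.relIndex P = p) (i2 : M.relIndex N = p)
    (i3 : C.relIndex M = p) (i4 : Z.relIndex C = p) (i5 : Y.relIndex Z = p) (n1 : P ≤ nz N) (n2 : P ≤ nz M)
    (n3 : P ≤ nz C) (n4 : P ≤ nz Z) (n5 : P ≤ nz Y) (t0 : t ∈ nz P) (t1 : t ∈ nz N) (t2 : t ∈ nz M) (t5 : t ∈ nz Y)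
    (w1 : Wt t N M m1) (w2 : Wt t M C m2) (w3 : Wt t C Z m3) (w4 : Wt t Z Y m4)
    (hC : ∀ c ∈ C, ∀ n ∈ N, ⁅c, n⁆ ∈ Y) (hN : ∀ a ∈ N, ∀ b ∈ N, ⁅a, b⁆ ∈ Z) (he : ∀ n ∈ N, n ^ p ∈ Y)
    (hna : ¬ ∀ a ∈ N, ∀ b ∈ N, ⁅a, b⁆ ∈ Y) (hg : ¬ ∀ a ∈ N, ∀ g ∈ P, ⁅a, g⁆ ∈ C)
    (hw : ∀ ν : ℤ, (p : ℤ) ∣ m2 - m1 * ν → ¬ (p : ℤ) ∣ m4 - m3 * ν ∧ ¬ (p : ℤ) ∣ m3 - m2 * ν ∧
      ¬ (p : ℤ) ∣ m2 - ν ∧ ¬ (p : ℤ) ∣ m3 - ν ∧ ¬ (p : ℤ) ∣ m4 - ν) : False := by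
  have lM := l2.trans l1
  have lC := l3.trans lM
  have lZ := l4.trans lC
  obtain ⟨ν, w0⟩ := exists_wt l1 n1 i1 t1 t0
  have c2 := comm_of_prime hP l2 l1 i2 n1 n2
  have c3 := comm_of_prime hP l3 lM i3 n2 n3
  have c4 := comm_of_prime hP l4 lC i4 n3 n4
  have c5 := comm_of_prime hP l5 lZ i5 n4 n5
  push Not at hg
  obtain ⟨y, hy, g0, hg0, hyg⟩ := hg
  obtain ⟨k1, k2, k3, k4, k5⟩ := hw ν (bil n3 l1 le_rfl l2 l1 w1 w0 w2 c3 (pow_of_prime (lM.trans n3) i3) c3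
    (fun a ha b hb => l4 (hN a ha b hb)) hy hg0 (c2 _ hy _ hg0) hyg)
  have a1 : ∀ c ∈ C, ∀ g ∈ P, ⁅c, g⁆ ∈ Y := fun c hc g hg => by_contra fun h =>
    k1 (bil n5 lC le_rfl l4 l1 w3 w0 w4 c5 (pow_of_prime (lZ.trans n5) i5) c5 hC hc hg (c4 _ hc _ hg) h)
  have a2 : ∀ c ∈ M, ∀ g ∈ P, ⁅c, g⁆ ∈ Z := fun c hc g hg => by_contra fun h =>
    k2 (bil n4 lM le_rfl l3 l1 w2 w0 w3 c4 (pow_of_prime (lC.trans n4) i4) c4 (fun a ha b hb => hN a (l2 ha) b hb)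
      hc hg (c3 _ hc _ hg) h)
  obtain ⟨x, hx, hxC⟩ := exists_notMem i3
  have eM := PGrp.sup_zpowers_eq_of_relIndex_prime hp.out i3 l3 hx hxC
  have hMM : ∀ a ∈ M, ∀ b ∈ M, ⁅a, b⁆ ∈ Y := by
    rw [← eM]; exact comm_sup_ab n5 lC (lM hx) (fun a ha b hb => a1 a ha b (lC hb)) fun a ha => a1 a ha x (lM hx)
  have hyM : y ∉ M := fun h => hyg (c3 _ h _ hg0)
  have eN := PGrp.sup_zpowers_eq_of_relIndex_prime hp.out i2 l2 hy hyM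
  have cM : ∀ n ∈ N, (∀ a ∈ M, ⁅a, n⁆ ∈ Y) → n ∈ M := fun n hn h => by_contra fun h' => hna (by
    rw [← PGrp.sup_zpowers_eq_of_relIndex_prime hp.out i2 l2 hn h']
    exact comm_sup_ab n5 lM (l1 hn) hMM h)
  have tr : ∀ g ∈ P, ∀ {U : Subgroup G}, P ≤ nz U → (∀ a ∈ M, ⁅a, g⁆ ∈ U) → g ∈ trv M U := fun g hg U hU h =>
    mem_trv_comm (hU hg) h
  have hyT : y ∉ trv M Y := fun h => hyM (cM y hy fun a ha => trv_comm h ha)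
  have trZ : ∀ g ∈ P, g ∈ trv Z Y := fun g hg => mem_trv_comm (n5 hg) fun a ha => c5 a ha g hg
  -- adjust `g0`
  obtain ⟨g, hgP, hgN, hgT⟩ : ∃ g ∈ P, g ∉ N ∧ ∀ a ∈ M, ⁅a, g⁆ ∈ Y := by
    have hZx : Z ⊔ zpowers x ≤ M := sup_le (l4.trans l3) (zpowers_le.2 hx)
    have f : ∀ g ∈ P, g ∈ trv (Z ⊔ zpowers x) Z := fun g hg =>
      mem_trv_comm (n4 hg) fun a ha => a2 a (hZx ha) g hg
    have ex : ∀ g ∈ P, g ∈ trv (Z ⊔ zpowers x) Y → ∀ a ∈ M, ⁅a, g⁆ ∈ Y := fun g hg h => by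
      rw [← eM]
      exact comm_sup n5 lC (lM hx) hg (fun a ha => a1 a ha g hg) (trv_comm h (mem_sup_right (mem_zpowers x)))
    obtain ⟨j, hj⟩ := exists_mul_mem_trv l5 (hZx.trans (lM.trans n5)) le_sup_left i5 rfl (f y (l1 hy))
      (trZ y (l1 hy)) (fun h => hyM (cM y hy (ex y (l1 hy) h))) (f g0 hg0) (trZ g0 hg0)
    have hm := mul_mem (inv_mem (pow_mem (l1 hy) j)) hg0
    refine ⟨_, hm, fun h => hyg (l4 (hN y hy g0 ?_)), ex _ hm hj⟩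
    simpa using mul_mem (pow_mem hy j) h
  have hgp : g ^ p ∈ M := cM _ (pow_of_prime n1 i1 g hgP) fun a ha =>
    trv_comm (pow_mem (tr g hgP n5 hgT) p) ha
  obtain ⟨n, hn, e⟩ := (w0 g hgP).exists
  have hnM : n ∈ M := cM n hn fun a ha => by
    have h1 : t * g * t⁻¹ ∈ trv M Y := conj_mem_of_nz (Inv.Es.mem_nz_trv t2 t5) (tr g hgP n5 hgT)
    rw [e] at h1
    exact trv_comm ((mul_mem_cancel_left (zpow_mem (tr g hgP n5 hgT) ν)).1 h1) ha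
  have hK := comm_sup_ab n5 lM hgP hMM hgT
  have hle : M ⊔ zpowers g ≤ P := sup_le lM (zpowers_le.2 hgP)
  have hcg : Cg Y ((g ^ p) ^ ν) (t * g ^ p * t⁻¹) := by
    have := cg_mul_zpow (commutator_le.2 hK) (hle.trans n5) (mem_sup_right (zpow_mem (mem_zpowers g) ν))
      (mem_sup_left hnM) (p : ℤ)
    simp only [zpow_natCast] at this
    rw [← conj_pow, e]
    refine Cg.trans ?_ this.symm
    rw [← zpow_natCast, ← zpow_natCast (g ^ ν), ← zpow_mul, ← zpow_mul, mul_comm]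
    exact cg_mul_mem _ (he n (l2 hnM))
  have hgY : g ^ p ∈ Y := by
    by_contra h5
    have hpw := he _ (l2 hgp)
    by_cases h4 : g ^ p ∈ Z
    · exact k5 (dvd_of_cg hpw h5 hcg (w4 _ h4))
    by_cases h3 : g ^ p ∈ C
    · exact k4 (dvd_of_cg (l5 hpw) h4 (hcg.mono l5) (w3 _ h3))
    · exact k3 (dvd_of_cg (l4 (l5 hpw)) h3 (hcg.mono (l5.trans l4)) (w2 _ hgp))
  exact hs.false n5 lM hgP (n2 hgP) (l5.trans (l4.trans l3)) (rel3 l5 l4 l3 i5 i4 i3) (fun h => hgN (l2 h)) hMM hgT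
    (fun a ha => he a (l2 ha)) hgY

end Cfsg.Agent.SR3
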