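import Mathlib
import Cfsg.Agent.SR3.A

/-! Essential subgroups of rank three: the transvection case. -/

set_option autoImplicit false
set_option linter.unusedSectionVars false

namespace Cfsg.Agent.SR3

open Subgroup Cfsg.Agent.Fusion Cfsg.Agent.Fusion.FS Cfsg.Agent.Inv.Es
open scoped commutatorElement

variable {G : Type*} [Group G] {p : ℕ} [hp : Fact p.Prime] [Finite G]

theorem rel_of_ne {A B Z : Subgroup G} (hA : IsPGroup p A) (h1 : A ≤ Z) (i2 : B.relIndex Z = p) (hn : ¬ A ≤ B) :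
    B.relIndex A = p :=
  relIndex_eq_of_le hA (i2 ▸ relIndex_le_of_le_right h1 (relIndex_ne_zero _ _)) hn

theorem phi_inv {N C Z Y : Subgroup G} {β : G} (hN : IsPGroup p N) (hs : R3 p N) (l3 : C ≤ N) (l4 : Z ≤ C)
    (l5 : Y ≤ Z) (i4 : Z.relIndex C = p) (i5 : Y.relIndex Z = p) (n5 : N ≤ nz Y) (hn : ¬ N ≤ C)
    (hC : ∀ c ∈ C, ∀ n ∈ N, ⁅c, n⁆ ∈ Y) (he : ∀ n ∈ N, n ^ p ∈ Y) (b1 : β ∈ nz N) (b2 : β ∈ nz Z) : β ∈ nz Y := by
  by_contra hb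
  have h1 : ¬ Y ≤ cj β Y := fun h => hb (mem_nz_iff.2 (eq_of_le_of_card_le h (card_cj β Y).le).symm)
  have i5' : (cj β Y).relIndex Z = p := by rw [← cj_of_nz b2, relIndex_cj, i5]
  have iW : (Y ⊓ cj β Y).relIndex Y = p := by
    rw [inf_relIndex_left]; exact rel_of_ne (hN.to_le (l5.trans (l4.trans l3))) l5 i5' h1
  have n5' : N ≤ nz (cj β Y) := by rw [← cj_nz, ← cj_of_nz b1]; exact cj_mono n5
  have nW : N ≤ nz (Y ⊓ cj β Y) := fun n hn => mem_nz_inf (n5 hn) (n5' hn)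
  have hC' : ∀ c ∈ cj β C, ∀ n ∈ N, ⁅c, n⁆ ∈ cj β Y := fun c hc n hn =>
    mem_cj.2 (mem_of_eq (hC _ (mem_cj.1 hc) _ (conj_mem_of_nz' b1 hn)) (by simp only [commutatorElement_def]; group))
  have he' : ∀ n ∈ N, n ^ p ∈ Y ⊓ cj β Y := fun n hn => ⟨he n hn, mem_cj.2 (by
    have := he _ (conj_mem_of_nz (inv_mem b1) hn)
    rwa [conj_pow, inv_inv] at this)⟩
  have lZ : Z ≤ cj β C := by rw [← cj_of_nz b2]; exact cj_mono l4
  have lC' : cj β C ≤ N := by rw [← cj_of_nz b1]; exact cj_mono l3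
  have nC : N ≤ nz C := PGrp.le_normalizer_of_commutator_le (l5.trans l4) (commutator_le.2 hC)
  obtain ⟨u, hu, huZ⟩ := exists_notMem i4
  have hCC : ∀ a ∈ C, ∀ b ∈ C, ⁅a, b⁆ ∈ Y ⊓ cj β Y := by
    rw [← PGrp.sup_zpowers_eq_of_relIndex_prime hp.out i4 l4 hu huZ]
    exact comm_sup_ab nW (l4.trans l3) (l3 hu)
      (fun a ha b hb => ⟨hC a (l4 ha) b (l3 (l4 hb)), hC' a (lZ ha) b (l3 (l4 hb))⟩)
      fun a ha => ⟨hC a (l4 ha) u (l3 hu), hC' a (lZ ha) u (l3 hu)⟩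
  obtain ⟨k, hk, hkC, hkc⟩ : ∃ k ∈ N, k ∉ C ∧ ∀ a ∈ C, ⁅a, k⁆ ∈ Y ⊓ cj β Y := by
    by_cases h : cj β C ≤ C
    · obtain ⟨k, hk, hkC⟩ := SetLike.not_le_iff_exists.1 hn
      have e := eq_of_le_of_card_le h (card_cj β C).ge
      exact ⟨k, hk, hkC, fun a ha => ⟨hC a ha k hk, hC' a (e.ge ha) k hk⟩⟩
    · obtain ⟨k, hk, hkC⟩ := SetLike.not_le_iff_exists.1 h
      exact ⟨k, lC' hk, hkC, fun a ha => ⟨hC a ha k (lC' hk), csym (hC' k hk a (l3 ha))⟩⟩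
  exact hs.false nW l3 hk (nC hk) (inf_le_left.trans (l5.trans l4)) (rel3 inf_le_left l5 l4 iW i5 i4) hkC hCC hkc
    (fun a ha => he' a (l3 ha)) (he' k hk)

variable {F : FS G} {E P X W L C H : Subgroup G} {x t a : G}

theorem pmod3 (hP : IsPGroup p P) (hX : X ≤ P) (hW : W ≤ X) (hY : Ph P ≤ W) {K : Subgroup G}
    (h1 : PMod p K (trv P X)) (h2 : PMod p K (trv X W)) (h3 : PMod p K (trv W (Ph P))) : PMod p K (cz P) :=
  pmod_cz_of_Ph hP (pmod_trv_trans (hP.to_le hX) (hX.trans ((le_nz P).trans (nz_le_nz_Ph P))) h1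
    (pmod_trv_trans (hP.to_le (hW.trans hX)) ((hW.trans hX).trans ((le_nz P).trans (nz_le_nz_Ph P))) h2 h3))

theorem nz_of_Ph (hP : IsPGroup p P) (hX : X ≤ P) (hY : Ph P ≤ X) : P ≤ nz X :=
  le_nz_of_comm_le (comm_le_Ph hP) hY hX

theorem extend3 (hF : F.Sat p) (hP : F.FN P) (hX : X ≤ P) (hW : W ≤ X) (hY : Ph P ≤ W) (i1 : X.relIndex P = p)
    (i2 : W.relIndex X = p) (i3 : (Ph P).relIndex W = p) (n1 : F.S ⊓ nz P ≤ nz X) (n2 : F.S ⊓ nz P ≤ nz W)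
    (ht : t ∈ F.aut P) (t1 : t ∈ nz X) (t2 : t ∈ nz W) : ∃ c ∈ cz P, t * c ∈ F.aut (F.S ⊓ nz P) := by
  have pg := hF.pg_le hP.1
  have lW := hW.trans hX
  have hK : ∀ a ∈ F.aut P, a ∈ nz X ⊓ nz W → a ∈ nz (F.aut P ⊓ (trv P X ⊓ trv X W ⊓ trv W (Ph P))) := fun a ha h =>
    mem_nz_inf (le_nz _ ha) (mem_nz_inf (mem_nz_inf (Fusion.mem_nz_trv ha.1 h.1) (Fusion.mem_nz_trv h.1 h.2))
      (Fusion.mem_nz_trv h.2 (nz_le_nz_Ph P ha.1)))
  have h3 : F.aut P ⊓ (trv P X ⊓ trv X W ⊓ trv W (Ph P)) ≤ ai F.S P := by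
    refine (hF.fa hP).le_aiS inf_le_left (pmod3 pg hX hW hY (.of_le fun a ha => ha.2.1.1) (.of_le fun a ha => ha.2.1.2)
      (.of_le fun a ha => ha.2.2)) fun a ha => hK a (aiS_le_aut hP.1 ha) ?_
    rw [ai_eq] at ha
    exact sup_le (le_inf n1 n2) (le_inf ((cz_anti hX).trans (cz_le_nz _)) ((cz_anti lW).trans (cz_le_nz _))) ha
  obtain ⟨c, hc, hM⟩ := ess_extend hF hP ht (R := F.S ⊓ nz P) inf_le_left (cj_le_iff.2 fun a ha =>
    h3 (conj_mem_of_nz (hK t ht ⟨t1, t2⟩) ⟨NS_le_aut hP.1 ha,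
      ⟨mem_trv_of_pg hX (nz_of_Ph pg hX (hY.trans hW)) i1.dvd ha.2 (n1 ha) (exists_pow_of_S hF ha.1),
      mem_trv_of_pg hW (hX.trans (nz_of_Ph pg lW hY)) i2.dvd (n1 ha) (n2 ha) (exists_pow_of_S hF ha.1)⟩,
      mem_trv_of_pg hY (lW.trans ((le_nz P).trans (nz_le_nz_Ph P))) i3.dvd (n2 ha) (nz_le_nz_Ph P ha.2)
        (exists_pow_of_S hF ha.1)⟩))
  have hM' := F.mono hM le_sup_right
  refine ⟨c, hc, mem_aut_of hM' (mem_nz_of_le (le_inf (F.cj_le hM') ?_))⟩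
  exact (cj_mono inf_le_right).trans (mem_nz_nz_of (mul_mem ht.1 (cz_le_nz P hc))).le

theorem mem_of_trv (hF : F.Sat p) (hE : F.Ess p E) {g : G} (h1 : g ∈ F.S) (h2 : g ∈ nz E) (h : g ∈ trv E (Ph E)) :
    g ∈ E :=
  ess_mem hF hE h1 h2 (pmod_cz_of_Ph (hF.pg_le hE.le)
    (pmod_ncl (F.aut_le_nz E) ((F.aut_le_nz E).trans (nz_le_nz_Ph E)) h))

theorem le_trv_Ph (hE : IsPGroup p E) : E ≤ trv E (Ph E) := fun g hg =>
  mem_trv_comm (nz_le_nz_Ph E (le_nz E hg)) fun _ ha => comm_le_Ph hE (commutator_mem_commutator ha hg)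

theorem ai_le_trv (hE : IsPGroup p E) : ai E E ≤ trv E (Ph E) := by
  rw [ai_self]; exact sup_le (le_trv_Ph hE) (cz_le_trv le_rfl (Ph_le E))

/-- a transvection on `E/Φ(E)` -/
structure TD (p : ℕ) (F : FS G) (E L C : Subgroup G) (x : G) : Prop where
  sat : F.Sat p
  ess : F.Ess p E
  l1 : Ph E ≤ L
  l2 : L ≤ C
  l3 : C ≤ E
  i1 : (Ph E).relIndex L = p
  i2 : L.relIndex C = p
  i3 : C.relIndex E = p
  xS : x ∈ F.S
  xN : x ∈ nz E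
  xE : x ∉ E
  t1 : x ∈ trv E L
  t2 : x ∈ trv C (Ph E)

namespace TD

theorem pg (h : TD p F E L C x) : IsPGroup p E := h.sat.pg_le h.ess.le
theorem xA (h : TD p F E L C x) : x ∈ F.aut E := mem_aut_of_S h.ess.le h.xS h.xN
theorem lL (h : TD p F E L C x) : L ≤ E := h.l2.trans h.l3

theorem conj (h : TD p F E L C x) (ha : a ∈ F.aut E) : Ph E ≤ cj a L ∧ cj a C ≤ E ∧ (Ph E).relIndex (cj a L) = p ∧
    (cj a C).relIndex E = p ∧ a * x * a⁻¹ ∈ trv E (cj a L) ∧ a * x * a⁻¹ ∈ trv (cj a C) (Ph E) := by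
  have e1 := cj_of_nz ha.1
  have e2 := cj_of_nz (nz_le_nz_Ph E ha.1)
  refine ⟨e2.ge.trans (cj_mono h.l1), (cj_mono h.l3).trans e1.le, ?_, ?_, ?_, ?_⟩
  · rw [← h.i1, ← relIndex_cj a (Ph E) L, e2]
  · rw [← h.i3, ← relIndex_cj a C E, e1]
  · simpa [e1] using conj_mem_trv (a := a) h.t1
  · simpa [e2] using conj_mem_trv (a := a) h.t2

theorem D_le (h : TD p F E L C x) (ha : a ∈ F.aut E) : closure {x, a * x * a⁻¹} ≤ F.aut E :=
  (closure_le _).2 (Set.pair_subset h.xA (mul_mem (mul_mem ha h.xA) (inv_mem ha)))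

theorem D_trv (h : TD p F E L C x) (ha : a ∈ F.aut E) : closure {x, a * x * a⁻¹} ≤ trv E (L ⊔ cj a L) := by
  obtain ⟨-, k2, -, -, k5, -⟩ := h.conj ha
  have lW : L ⊔ cj a L ≤ E := sup_le h.lL ((cj_mono h.l2).trans k2)
  exact (closure_le _).2 (Set.pair_subset (trv_mono_right le_sup_left lW h.t1) (trv_mono_right le_sup_right lW k5))

theorem not_pmod (h : TD p F E L C x) (ha : Opp p F E a) :
    ¬ PMod p (closure {x, a * x * a⁻¹}) (trv (L ⊔ cj a L) (Ph E)) := fun hm => by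
  obtain ⟨-, k2, -, -, -, -⟩ := h.conj ha.1
  have lW : L ⊔ cj a L ≤ E := sup_le h.lL ((cj_mono h.l2).trans k2)
  exact ha.2 x h.xS h.xN h.xE x h.xS h.xN h.xE _ (h.D_le ha.1) (subset_closure (by simp)) (subset_closure (by simp))
    (pmod_cz_of_Ph h.pg (pmod_trv_trans (h.pg.to_le lW) (lW.trans ((le_nz E).trans (nz_le_nz_Ph E)))
      (.of_le (h.D_trv ha.1)) hm))

theorem not_le (h : TD p F E L C x) (ha : Opp p F E a) : ¬ L ≤ cj a C := fun hle => by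
  obtain ⟨-, k2, -, -, -, k6⟩ := h.conj ha.1
  have lW : L ⊔ cj a L ≤ cj a C := sup_le hle (cj_mono h.l2)
  refine h.not_pmod ha (pmod_trv_trans (h.pg.to_le h.lL) (h.lL.trans ((le_nz E).trans (nz_le_nz_Ph E)))
    (pmod_closure_pair (trv_mono_left (lW.trans k2) h.t1) (trv_mono_right h.l1 le_sup_left (trv_mono_left lW k6)))
    (pmod_closure_pair (trv_mono_left h.l2 h.t2) (trv_mono_left hle k6)))

theorem not_le' (h : TD p F E L C x) (ha : Opp p F E a) : ¬ cj a L ≤ C := fun hle =>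
  h.not_le ha.inv (cj_le_iff_le.1 hle)

theorem yz (h : TD p F E L C x) (ha : Opp p F E a) : ∃ y z, y ∈ cj a L ∧ y ∉ C ∧ Ph E ⊔ zpowers y = cj a L ∧
    z = y⁻¹ * (x * y * x⁻¹) ∧ z ∈ L ∧ z ∉ Ph E ∧ Ph E ⊔ zpowers z = L := by
  obtain ⟨k1, k2, k3, -, -, -⟩ := h.conj ha.1
  obtain ⟨y, hy, hyC⟩ := SetLike.not_le_iff_exists.1 (h.not_le' ha)
  have hyE : y ∈ E := k2 (cj_mono h.l2 hy)
  have nP := (le_nz E).trans (nz_le_nz_Ph E)
  have hz : y⁻¹ * (x * y * x⁻¹) ∉ Ph E := fun hz => h.xE (mem_of_trv h.sat h.ess h.xS h.xN (by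
    nth_rewrite 1 [← PGrp.sup_zpowers_eq_of_relIndex_prime hp.out h.i3 h.l3 hyE hyC]
    exact mem_trv_sup h.t2 (mem_trv_zpowers h.t2.1 (nP hyE) hz) (h.l3.trans nP) (zpowers_le.2 (nP hyE))))
  exact ⟨y, _, hy, hyC, PGrp.sup_zpowers_eq_of_relIndex_prime hp.out k3 k1 hy (fun h' => hyC (h.l2 (h.l1 h'))), rfl,
    h.t1.2 y hyE, hz, PGrp.sup_zpowers_eq_of_relIndex_prime hp.out h.i1 h.l1 (h.t1.2 y hyE) hz⟩

theorem pow_mem (h : TD p F E L C x) : x ^ p ∈ E := by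
  have nL : L ≤ nz (Ph E) := h.lL.trans ((le_nz E).trans (nz_le_nz_Ph E))
  refine mem_of_trv h.sat h.ess (Subgroup.pow_mem _ h.xS p) (Subgroup.pow_mem _ h.xN p)
    (mem_trv_of (Ph_le E) fun e he => Cg.trans ?_ (pow_mul_nat_cg he h.t1 (trv_mono_left h.l2 h.t2) nL p))
  exact cg_mul_mem _ (pow_of_prime nL h.i1 _ (h.t1.2 e he))

theorem NS_eq (h : TD p F E L C x) : E ⊔ zpowers x = F.S ⊓ nz E := by
  refine le_antisymm (sup_le (le_NS h.ess.le) (zpowers_le.2 ⟨h.xS, h.xN⟩)) fun g hg => ?_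
  obtain ⟨H, hH, hle⟩ := exists_spe h.sat h.ess
  obtain ⟨a, ha, haH⟩ := SetLike.exists_of_lt hH.lt
  have op := fun {b : G} => opp_of_not_mem h.sat h.ess hH hle (a := b)
  have NH : F.S ⊓ nz E ≤ H := (inf_le_ai _ _).trans hle
  obtain ⟨y, z, hy, hyC, ey, ez, hz, hzP, eL⟩ := h.yz (op ha haH)
  have hb : g * a ∈ F.aut E := mul_mem (NS_le_aut h.ess.le hg) ha
  have hbH : g * a ∉ H := fun h' => haH ((mul_mem_cancel_left (NH hg)).1 h')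
  obtain ⟨k1, k2, -, k4, -, -⟩ := h.conj hb
  have lP : Ph E ≤ cj (g * a) C := k1.trans (cj_mono h.l2)
  have hzC : z ∉ cj (g * a) C := fun h' => h.not_le (op hb hbH) (eL ▸ sup_le lP (zpowers_le.2 h'))
  have hyE : y ∈ E := (h.conj ha).2.1 (cj_mono h.l2 hy)
  have nC := nz_of_Ph h.pg k2 lP
  have e1 := PGrp.sup_zpowers_eq_of_relIndex_prime hp.out k4 k2 (h.lL hz) hzC
  obtain ⟨c, hc, k, e2⟩ := (PGrp.mem_sup_zpowers_nat (nC (h.lL hz))).1 (e1.ge (inv_mem hyE))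
  have h1 : y * z ^ k ∈ cj (g * a) C := mem_of_eq (conj_mem_of_nz' (Subgroup.pow_mem _ (nC (h.lL hz)) k) (inv_mem hc))
    (by rw [← inv_inv y, ← e2]; group)
  have h2 : x ^ k * y * (x ^ k)⁻¹ ∈ cj (g * a) C := by
    have := pow_mul_nat_cg hyE h.t1 (trv_mono_left h.l2 h.t2) (h.lL.trans ((le_nz E).trans (nz_le_nz_Ph E))) k
    rw [← ez] at this
    exact this.mem lP h1
  have h3 : cj ((g * a)⁻¹ * x ^ k * a) L ≤ C := by
    rw [cj_mul, cj_mul, ← le_cj_iff, ← ey, cj_sup, cj_zpowers,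
      cj_of_nz (nz_le_nz_Ph E (Subgroup.pow_mem _ h.xN k))]
    exact sup_le lP (zpowers_le.2 h2)
  have h4 : (g * a)⁻¹ * x ^ k * a ∈ H := by_contra fun h' =>
    h.not_le' (op (mul_mem (mul_mem (inv_mem hb) (Subgroup.pow_mem _ h.xA k)) ha) h') h3
  have h5 : g⁻¹ * x ^ k ∈ F.S ⊓ nz E := mul_mem (inv_mem hg) (Subgroup.pow_mem _ (mem_inf.2 ⟨h.xS, h.xN⟩) k)
  obtain ⟨m, hm⟩ := exists_pow_of_S h.sat h5.1
  have h6 : g⁻¹ * x ^ k ∈ ai E E := by_contra fun h' => haH (inv_mem_iff.1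
    (hH.mem (inv_mem ha) (NH h5) h' (hm ▸ one_mem _) (mem_of_eq h4 (by group))))
  have h7 := mem_of_trv h.sat h.ess h5.1 h5.2 (ai_le_trv h.pg h6)
  exact mem_of_eq (mul_mem (mem_sup_right (Subgroup.pow_mem _ (mem_zpowers x) k)) (mem_sup_left (inv_mem h7)))
    (by group)

theorem exists_tau (h : TD p F E L C x) (l m : ℤ) (hlm : (p : ℤ) ∣ l * m - 0 * 0 - 1) :
    ∃ t ∈ F.aut E, t ∈ nz L ∧ t ∈ nz C ∧ Wt t E C m ∧ Wt t C L 1 ∧ Wt t L (Ph E) l := by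
  obtain ⟨a, ha⟩ := exists_opp h.sat h.ess
  obtain ⟨y, z, hy, hyC, ey, -, hz, hzP, eL⟩ := h.yz ha
  obtain ⟨k1, k2, k3, k4, k5, k6⟩ := h.conj ha.1
  have lL' : cj a L ≤ E := (cj_mono h.l2).trans k2
  have lW : L ⊔ cj a L ≤ E := sup_le h.lL lL'
  have nP := (le_nz E).trans (nz_le_nz_Ph E)
  have eW : Ph E ⊔ zpowers z ⊔ zpowers y = L ⊔ cj a L := by
    rw [eL, ← ey, ← sup_assoc, sup_eq_left.2 h.l1]
  have iW : (Ph E).relIndex (L ⊔ cj a L) = p ^ 2 := by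
    rw [← relIndex_mul_relIndex _ L _ h.l1 le_sup_left, h.i1, ← eW, eL, PGrp.relIndex_sup_zpowers hp.out
      (nz_of_Ph h.pg h.lL h.l1 (lL' hy)) (h.l1 (pow_mem_Ph h.pg (lL' hy))) (fun h' => hyC (h.l2 h')), pow_two]
  have dP := (h.D_le ha.1).trans ((F.aut_le_nz E).trans (nz_le_nz_Ph E))
  obtain ⟨t, ht, c1, c2⟩ := plane (h.l1.trans le_sup_left) ((commutator_mono lW lW).trans (comm_le_Ph h.pg))
    (fun w hw => pow_mem_Ph h.pg (lW hw)) iW ((h.D_trv ha.1).trans (trv_le_nz _ _)) dP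
    (closure_le_pres' (by
      obtain ⟨k, hk⟩ := exists_pow_of_S h.sat h.xS
      rintro w (rfl | rfl)
      exacts [⟨k, hk⟩, ⟨k, by rw [conj_pow, hk]; simp⟩])) (h.not_pmod ha) (mem_sup_left hz) (mem_sup_right hy) eW
    l 0 0 m hlm
  simp only [zpow_zero, mul_one, one_mul] at c1 c2
  have w3 := wt_of_one h.l1 (h.lL.trans nP) h.i1 (dP ht) hz hzP c1
  have tL : t ∈ nz L := mem_nz_of_forall fun w hw => (w3 w hw).mem h.l1 (zpow_mem hw l)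
  have tV : t ∈ trv (C ⊓ cj a C) (Ph E) := ((closure_le _).2
    (Set.pair_subset (trv_mono_left inf_le_left h.t2) (trv_mono_left inf_le_right k6)) :
    closure {x, a * x * a⁻¹} ≤ trv (C ⊓ cj a C) (Ph E)) ht
  have eC := inf_sup_of_relIndex (rel_of_ne (h.pg.to_le h.l3) h.l3 k4 fun h' => h.not_le ha (h.l2.trans h')) h.l2
    (h.not_le ha)
  have nL := nz_of_Ph h.pg h.lL h.l1
  have tC : t ∈ trv C L := by
    rw [← eC]
    exact mem_trv_sup ⟨tL, fun w hw => h.l1 (tV.2 w hw)⟩ (mem_trv_of_le le_rfl tL)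
      ((inf_le_left.trans h.l3).trans nL) (le_nz L)
  have tC' := trv_le_nz_of_le h.l2 le_rfl tC
  exact ⟨t, h.D_le ha.1 ht, tL, tC', wt_of_one h.l3 (nz_of_Ph h.pg h.l3 (h.l1.trans h.l2)) h.i3 tC' (lL' hy) hyC
    (c2.mono (h.l1.trans h.l2)), wt_one tC, w3⟩

theorem exists_lam (h5 : 5 ≤ p) : ∃ l m : ℤ, (p : ℤ) ∣ l * m - 0 * 0 - 1 ∧ ¬ (p : ℤ) ∣ l - 1 ∧ ¬ (p : ℤ) ∣ l ^ 2 - 1 ∧
    ¬ (p : ℤ) ∣ l ^ 3 - 1 ∧ ¬ (p : ℤ) ∣ l ^ 5 - 1 := by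
  have key : ∀ l : ℤ, ¬ (p : ℤ) ∣ l → ∃ m, (p : ℤ) ∣ l * m - 0 * 0 - 1 := fun l hl => by
    obtain ⟨a, b, e⟩ := (Prime.coprime_iff_not_dvd (Nat.prime_iff_prime_int.1 hp.out)).2 hl
    exact ⟨b, -a, by linear_combination e⟩
  have nd : ∀ n : ℕ, n.Prime → p ≠ n → ¬ (p : ℤ) ∣ (n : ℤ) := fun n hn h h' =>
    h ((Nat.prime_dvd_prime_iff_eq hp.out hn).1 (Int.natCast_dvd_natCast.1 h'))
  have pr := Nat.prime_iff_prime_int.1 hp.out
  have n2 := nd 2 (by norm_num) (by omega)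
  have n3 := nd 3 (by norm_num) (by omega)
  by_cases h : p = 7 ∨ p = 31
  · obtain ⟨m, hm⟩ := key 3 n3
    refine ⟨3, m, hm, ?_⟩
    rcases h with rfl | rfl <;> norm_num
  · obtain ⟨m, hm⟩ := key 2 n2
    exact ⟨2, m, hm, by simpa using pr.not_dvd_one, n3, nd 7 (by norm_num) (by omega), nd 31 (by norm_num) (by omega)⟩

theorem wt_cz {X Y : Subgroup G} {c : G} {m : ℤ} (hc : c ∈ cz P) (hX : X ≤ P) (h : Wt t X Y m) : Wt (t * c) X Y m :=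
  fun w hw => by rw [conj_mul_cz hc (hX hw)]; exact h w hw

theorem ar {l m : ℤ} (hlm : (p : ℤ) ∣ l * m - 0 * 0 - 1) (q1 : ¬ (p : ℤ) ∣ l - 1) (q2 : ¬ (p : ℤ) ∣ l ^ 2 - 1)
    (q3 : ¬ (p : ℤ) ∣ l ^ 3 - 1) (q5 : ¬ (p : ℤ) ∣ l ^ 5 - 1) :
    (∀ ν, (p : ℤ) ∣ l - m * ν → ¬ (p : ℤ) ∣ l - ν) ∧ (∀ ν, (p : ℤ) ∣ l - m * ν → ¬ (p : ℤ) ∣ 1 - ν) ∧
    (∀ ν k, (p : ℤ) ∣ l - m * ν → (p : ℤ) ∣ ν - k → ∀ v, (p : ℤ) ∣ k - m * v → ¬ (p : ℤ) ∣ l - 1 * v ∧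
      ¬ (p : ℤ) ∣ 1 - k * v ∧ ¬ (p : ℤ) ∣ k - v ∧ ¬ (p : ℤ) ∣ 1 - v ∧ ¬ (p : ℤ) ∣ l - v) ∧
    (∀ v, (p : ℤ) ∣ l - m * v → ¬ (p : ℤ) ∣ 1 - 1 * v ∧ ¬ (p : ℤ) ∣ 1 - l * v ∧ ¬ (p : ℤ) ∣ l - v ∧
      ¬ (p : ℤ) ∣ 1 - v ∧ ¬ (p : ℤ) ∣ 1 - v) := by
  simp only [← ZMod.intCast_zmod_eq_zero_iff_dvd] at *
  push_cast at *
  generalize (l : ZMod p) = L at *
  generalize (m : ZMod p) = M at *
  have f : ∀ v : ZMod p, L - M * v = 0 → v = L ^ 2 := fun v h => by linear_combination -L * h - v * hlm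
  refine ⟨fun v h h' => q1 ?_, fun v h h' => q2 ?_, fun ν k h h' v h'' => ?_, fun v h => ?_⟩
  · rw [f _ h] at h'; linear_combination -M * h' - (L - 1) * hlm
  · rw [f _ h] at h'; linear_combination -h'
  · have e1 : (k : ZMod p) = L ^ 2 := by rw [← f _ h]; linear_combination -h'
    have e2 : (v : ZMod p) = L ^ 3 := by rw [e1] at h''; linear_combination -L * h'' - v * hlm
    rw [e1, e2]
    refine ⟨fun h => q2 ?_, fun h => q5 ?_, fun h => q1 ?_, fun h => q3 ?_, fun h => q2 ?_⟩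
    · linear_combination -M * h - (L ^ 2 - 1) * hlm
    · linear_combination -h
    · linear_combination -M ^ 2 * h - (L - 1) * (L * M + 1) * hlm
    · linear_combination -h
    · linear_combination -M * h - (L ^ 2 - 1) * hlm
  · rw [f _ h]
    refine ⟨fun h => q2 ?_, fun h => q3 ?_, fun h => q1 ?_, fun h => q2 ?_, fun h => q2 ?_⟩
    · linear_combination -h
    · linear_combination -h
    · linear_combination -M * h - (L - 1) * hlm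
    · linear_combination -h
    · linear_combination -h

set_option maxHeartbeats 800000 in
theorem false (h : TD p F E L C x) (h5 : 5 ≤ p) (hs : R3 p F.S) (hN : F.FN (F.S ⊓ nz E)) (hn : ¬ F.S ≤ nz E) :
    False := by
  have eN := h.NS_eq
  generalize hN0 : F.S ⊓ nz E = N at hN eN
  have NS : N ≤ F.S := hN.1
  have NE : N ≤ nz E := hN0 ▸ inf_le_right
  have pgN := h.sat.pg_le NS
  have EN : E ≤ N := eN ▸ le_sup_left
  have xN : x ∈ N := eN ▸ mem_sup_right (mem_zpowers x)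
  have iE : E.relIndex N = p := eN ▸ PGrp.relIndex_sup_zpowers hp.out h.xN h.pow_mem h.xE
  have nP : N ≤ nz (Ph E) := NE.trans (nz_le_nz_Ph E)
  have lP := h.l1.trans h.l2
  have T1 : N ≤ trv E L := eN ▸ sup_le ((le_trv_Ph h.pg).trans (trv_mono_right h.l1 h.lL)) (zpowers_le.2 h.t1)
  have T2 : N ≤ trv C (Ph E) := eN ▸ sup_le ((le_trv_Ph h.pg).trans (trv_mono_left h.l3)) (zpowers_le.2 h.t2)
  have nL : N ≤ nz L := T1.trans (trv_le_nz _ _)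
  have nC : N ≤ nz C := T1.trans (trv_le_nz_of_le h.l2 h.l3)
  have hC : ∀ c ∈ C, ∀ n ∈ N, ⁅c, n⁆ ∈ Ph E := fun c hc n hn => trv_comm (T2 hn) hc
  have hEL : ∀ c ∈ E, ∀ n ∈ N, ⁅c, n⁆ ∈ L := fun c hc n hn => trv_comm (T1 hn) hc
  have hNN : ∀ a ∈ N, ∀ b ∈ N, ⁅a, b⁆ ∈ L := by
    rw [← eN]; exact comm_sup_ab nL EN xN (fun a ha b hb => hEL a ha b (EN hb)) fun a ha => hEL a ha x xN
  have mE : ∀ n ∈ N, (∀ e ∈ E, ⁅e, n⁆ ∈ Ph E) → n ∈ E := fun n hn h' =>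
    mem_of_trv h.sat h.ess (NS hn) (NE hn) (mem_trv_comm (nP hn) h')
  have hEE : ∀ a ∈ E, ∀ b ∈ E, ⁅a, b⁆ ∈ Ph E := fun a ha b hb => trv_comm (le_trv_Ph h.pg hb) ha
  have mC : ∀ n ∈ N, n ∉ E → ∀ w ∈ E, ⁅w, n⁆ ∈ Ph E → w ∈ C := fun n hn hnE w hw h' => by_contra fun hwC => hnE
    (mE n hn fun e he => comm_sup nP (h.l3.trans EN) (EN hw) hn (fun c hc => hC c hc n hn) h' e
      ((PGrp.sup_zpowers_eq_of_relIndex_prime hp.out h.i3 h.l3 hw hwC).ge he))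
  obtain ⟨l, m, hlm, q1, q2, q3, q5⟩ := exists_lam (p := p) h5
  obtain ⟨t0, ht0, tL0, tC0, w1, w2, w3⟩ := h.exists_tau l m hlm
  obtain ⟨c0, hc0, ht⟩ := extend3 h.sat h.ess.2.1 h.l3 h.l2 h.l1 h.i3 h.i2 h.i1 (hN0 ▸ nC) (hN0 ▸ nL) ht0 tC0 tL0
  rw [hN0] at ht
  replace w1 := wt_cz hc0 le_rfl w1
  replace w2 := wt_cz hc0 h.l3 w2
  replace w3 := wt_cz hc0 h.lL w3
  have tE : t0 * c0 ∈ nz E := mul_mem ht0.1 (cz_le_nz E hc0)
  generalize t0 * c0 = t at *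
  obtain ⟨ν, w0⟩ := exists_wt EN NE iE tE ht.1
  obtain ⟨y, hy, hyC⟩ := exists_notMem h.i3
  have hyx : ⁅y, x⁆ ∉ Ph E := fun h' => hyC (mC x xN h.xE y hy h')
  have pwE : ∀ e ∈ E, e ^ p ∈ Ph E := fun e he => pow_mem_Ph h.pg he
  have hν := bil nP EN le_rfl h.l3 EN w1 w0 w3 (fun z hz => hC z (h.l2 hz)) (fun z hz => pwE z (h.lL hz)) hC hEE hy xN
    (hEL y hy x xN) hyx
  obtain ⟨a1, a2, a3, a4⟩ := ar hlm q1 q2 q3 q5
  have he : ∀ n ∈ N, n ^ p ∈ Ph E := fun n hn => by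
    by_cases hnE : n ∈ E
    · exact pwE n hnE
    have hw := pow_of_prime NE iE n hn
    have hwC := mC n hn hnE _ hw (by
      rw [commutatorElement_eq_one_iff_commute.2 ((Commute.refl n).pow_left p)]; exact one_mem _)
    obtain ⟨e, he, ee⟩ := (w0 n hn).exists
    have hnν := zpow_mem hn ν
    have h1 := cg_mul_pow (p := p) (by omega) (nP hnν) (nP (EN he)) (csym (hC _ (h.l2 (hEL e he _ hnν)) _ hnν))
      (csym (hC _ (h.l2 (hEL e he _ hnν)) _ (EN he))) (pwE _ (h.lL (hEL e he _ hnν)))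
    have h2 : Cg (Ph E) ((n ^ p) ^ ν) (t * n ^ p * t⁻¹) := by
      rw [← conj_pow, ee]
      refine Cg.trans ?_ h1
      rw [← zpow_natCast, ← zpow_natCast (n ^ ν), ← zpow_mul, ← zpow_mul, mul_comm]
      exact cg_mul_mem _ (pwE e he)
    by_contra h3
    by_cases h4 : n ^ p ∈ L
    · exact a1 ν hν (dvd_of_cg (pwE _ hw) h3 h2 (w3 _ h4))
    · exact a2 ν hν (dvd_of_cg (h.l1 (pwE _ hw)) h4 (h2.mono h.l1) (w2 _ hwC))
  have ePh : Ph N = L := by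
    refine le_antisymm ((Ph_le_iff pgN).2 ⟨commutator_le.2 hNN, fun n hn => h.l1 (he n hn)⟩) ?_
    rw [← PGrp.sup_zpowers_eq_of_relIndex_prime hp.out h.i1 h.l1 (hEL y hy x xN) hyx]
    exact sup_le ((Ph_le_iff h.pg).2 ⟨(commutator_mono EN EN).trans (comm_le_Ph pgN), fun e he =>
      pow_mem_Ph pgN (EN he)⟩) (zpowers_le.2 (comm_le_Ph pgN (commutator_mem_commutator (EN hy) xN)))
  have CN := h.l3.trans EN
  have bL : nz N ≤ nz L := ePh ▸ nz_le_nz_Ph N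
  have bP : nz N ≤ nz (Ph E) := fun β hβ => phi_inv pgN (hs.mono NS) CN h.l2 h.l1 h.i2 h.i1 nP
    (fun h' => h.xE (h.l3 (h' xN))) hC he hβ (bL hβ)
  have eC : C = N ⊓ trv N (Ph E) := le_antisymm (le_inf CN fun c hc =>
      mem_trv_comm (nP (CN hc)) fun n hn => csym (hC c hc n hn)) fun n hn =>
    mC x xN h.xE n (mE n hn.1 fun e he => trv_comm hn.2 (EN he)) (csym (trv_comm hn.2 xN))
  have bC : nz N ≤ nz C := fun β hβ => eC ▸ mem_nz_inf hβ (Fusion.mem_nz_trv hβ (bP hβ))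
  have lt1 : N < F.S ⊓ nz N := h.sat.lt_NS (lt_of_le_not_ge NS fun h' => hn (h'.trans NE))
  generalize hP0 : F.S ⊓ nz N = P at lt1
  have PS : P ≤ F.S := hP0 ▸ inf_le_left
  have PN : P ≤ nz N := hP0 ▸ inf_le_right
  have pgP := h.sat.pg_le PS
  have mN : ∀ g ∈ P, g ∈ trv N C → g ∈ N := fun g hg h' => hN0 ▸ ⟨PS hg, trv_le_nz_of_le h.l3 EN h'⟩
  have iCN : C.relIndex N = p ^ 2 := by rw [← relIndex_mul_relIndex C E N h.l3 EN, h.i3, iE, pow_two]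
  obtain ⟨M, CM, MN, iM, -, -, PM⟩ := PGrp.exists_step pgP lt1.le PN (PN.trans bC)
    (lt_of_le_not_ge CN fun h' => h.xE (h.l3 (h' xN)))
  have iMN : M.relIndex N = p := by
    have := relIndex_mul_relIndex C M N CM MN
    rw [iM, iCN, pow_two] at this
    exact Nat.eq_of_mul_eq_mul_left hp.out.pos this
  obtain ⟨g, hg, hgN, hgp, -⟩ := PGrp.exists_central_mod pgP le_rfl (le_nz P) PN lt1.not_ge
  have ME : ¬ M ≤ E := fun h' => hgN (hN0 ▸ ⟨PS hg, by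
    rcases PGrp.eq_or_eq_of_relIndex_prime hp.out h.i3 CM h' with e | e
    · rw [e, relIndex_self] at iM; exact absurd iM hp.out.one_lt.ne
    · exact e ▸ PM hg⟩)
  have hyM : y ∉ M := fun h' => by
    have h1 : E ≤ M := PGrp.sup_zpowers_eq_of_relIndex_prime hp.out h.i3 h.l3 hy hyC ▸ sup_le CM (zpowers_le.2 h')
    rcases PGrp.eq_or_eq_of_relIndex_prime hp.out iM h.l3 h1 with e | e
    · exact hyC (e ▸ hy)
    · exact ME e.ge
  have eyM := PGrp.sup_zpowers_eq_of_relIndex_prime hp.out iMN MN (EN hy) hyM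
  obtain ⟨u, hu, huE⟩ := SetLike.not_le_iff_exists.1 ME
  have huC : u ∉ C := fun h' => huE (h.l3 h')
  have euM := PGrp.sup_zpowers_eq_of_relIndex_prime hp.out iM CM hu huC
  have c2 := comm_of_prime pgP MN lt1.le iMN PN PM
  have c3 := comm_of_prime pgP CM (MN.trans lt1.le) iM PM (PN.trans bC)
  have c4 := comm_of_prime pgP h.l2 (CN.trans lt1.le) h.i2 (PN.trans bC) (PN.trans bL)
  have c5 := comm_of_prime pgP h.l1 (h.lL.trans (EN.trans lt1.le)) h.i1 (PN.trans bL) (PN.trans bP)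
  have r2 : P ≤ trv N M := fun k hk => mem_trv_comm (PM hk) fun a ha => c2 a ha k hk
  have r3 : P ≤ trv M C := fun k hk => mem_trv_comm (bC (PN hk)) fun a ha => c3 a ha k hk
  have r4 : P ≤ trv C L := fun k hk => mem_trv_comm (bL (PN hk)) fun a ha => c4 a ha k hk
  have r5 : P ≤ trv L (Ph E) := fun k hk => mem_trv_comm (bP (PN hk)) fun a ha => c5 a ha k hk
  have hgT : g ∉ trv N C := fun h' => hgN (mN g hg h')
  have iP : N.relIndex P = p := by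
    have e : N ⊔ zpowers g = P := le_antisymm (sup_le lt1.le (zpowers_le.2 hg)) fun k hk => by
      obtain ⟨j, hj⟩ := exists_mul_mem_trv CM nC MN iM eyM (r2 hg) (r3 hg) hgT (r2 hk) (r3 hk)
      have := mN _ (mul_mem (inv_mem (Subgroup.pow_mem _ hg j)) hk) hj
      exact mem_of_eq (mul_mem (mem_sup_right (Subgroup.pow_mem _ (mem_zpowers g) j)) (mem_sup_left this)) (by group)
    rw [← e]; exact PGrp.relIndex_sup_zpowers hp.out (PN hg) hgp hgN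
  obtain ⟨s, hsA, hsM, m1, m2, m3, m4, v1, v2, v3, v4, hw⟩ : ∃ s ∈ F.aut N, s ∈ nz M ∧ ∃ m1 m2 m3 m4 : ℤ,
      Wt s N M m1 ∧ Wt s M C m2 ∧ Wt s C L m3 ∧ Wt s L (Ph E) m4 ∧ ∀ ν : ℤ, (p : ℤ) ∣ m2 - m1 * ν →
      ¬ (p : ℤ) ∣ m4 - m3 * ν ∧ ¬ (p : ℤ) ∣ m3 - m2 * ν ∧ ¬ (p : ℤ) ∣ m2 - ν ∧ ¬ (p : ℤ) ∣ m3 - ν ∧
        ¬ (p : ℤ) ∣ m4 - ν := by
    by_cases htM : t ∈ nz M
    · obtain ⟨k, wk⟩ := exists_wt CM (MN.trans nC) iM (bC ht.1) htM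
      exact ⟨t, ht, htM, m, k, 1, l, wt_of_one MN (lt1.le.trans PM) iMN htM (EN hy) hyM ((w1 y hy).mono CM), wk, w2, w3,
        a3 ν k hν (dvd_of_cg (pow_of_prime NE iE u (MN hu)) huE ((wk u hu).mono h.l3) (w0 u (MN hu)))⟩
    have PA : P ≤ F.aut N := hP0 ▸ NS_le_aut NS
    have KA : P ⊔ cj t P ≤ F.aut N := sup_le PA ((cj_mono PA).trans (cj_of_mem ht).le)
    have K4 : P ⊔ cj t P ≤ trv C L :=
      sup_le r4 ((cj_mono r4).trans (cj_of_nz (Fusion.mem_nz_trv (bC ht.1) (bL ht.1))).le)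
    have K5 : P ⊔ cj t P ≤ trv L (Ph E) :=
      sup_le r5 ((cj_mono r5).trans (cj_of_nz (Fusion.mem_nz_trv (bL ht.1) (bP ht.1))).le)
    have hnp : ¬ PMod p (P ⊔ cj t P) (trv N C) := fun hm => by
      have h1 : PMod p (P ⊔ cj t P) (cz N) := pmod_cz_of_Ph pgN (ePh ▸ pmod_trv_trans (pgN.to_le CN) (CN.trans nL) hm
        (.of_le K4))
      have h2 : P ⊔ cj t P ⊔ cz N ≤ ai F.S N := (h.sat.fa hN).le_aiS (sup_le KA (F.cz_le_aut N))
        (h1.sup_self (KA.trans (F.aut_le_nz_cz N))) (le_trans (by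
          rw [ai_eq, hP0]; exact sup_le_sup_right le_sup_left _) (le_nz _))
      have h3 : ai F.S N ≤ nz M := by rw [ai_eq, hP0]; exact sup_le PM ((cz_anti MN).trans (cz_le_nz M))
      have h4 : t⁻¹ * (t * g * t⁻¹) * t ∈ trv N C := by
        refine conj_mem_of_nz' (Fusion.mem_nz_trv ht.1 (bC ht.1)) ?_
        have lM' : cj t M ≤ N := (cj_mono MN).trans (cj_of_nz ht.1).le
        have e : M ⊔ cj t M = N := (PGrp.eq_or_eq_of_relIndex_prime hp.out iMN le_sup_left (sup_le MN lM')).resolve_left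
          fun e => htM (mem_nz_of_le (le_sup_right.trans e.le))
        obtain ⟨k, hk⟩ := isPGroup_iff.1 pgP g hg
        nth_rewrite 1 [← e]
        refine mem_trv_sup (mem_trv_of_pg CM (MN.trans nC) iM.dvd
          (h3 (h2 (mem_sup_left (mem_sup_right (conj_mem_cj_of hg))))) (bC (mul_mem (mul_mem ht.1 (PN hg)) (inv_mem ht.1)))
          ⟨k, by rw [conj_pow, hk]; simp⟩) ?_ (MN.trans nC) (lM'.trans nC)
        simpa [cj_of_nz (bC ht.1)] using conj_mem_trv (a := t) (r3 hg)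
      exact hgT (by simpa [mul_assoc] using h4)
    obtain ⟨s, hs, d1, d2⟩ := plane CN (commutator_le.2 fun a ha b hb => h.l2 (hNN a ha b hb))
      (fun n hn => lP (he n hn)) iCN (KA.trans (F.aut_le_nz N)) (KA.trans ((F.aut_le_nz N).trans bC))
      (sup_le (le_pres'_of_pg le_sup_left pgP) (le_pres'_of_pg le_sup_right (isPGroup_cj t pgP))) hnp (MN hu) (EN hy)
      (by rw [euM, eyM]) l 0 0 m hlm
    simp only [zpow_zero, mul_one, one_mul] at d1 d2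
    have v2 := wt_of_one CM (MN.trans nC) iM (bC (KA hs).1) hu huC d1
    have sM : s ∈ nz M := mem_nz_of_forall fun w hw => (v2 w hw).mem CM (zpow_mem hw l)
    exact ⟨s, KA hs, sM, m, l, 1, 1, wt_of_one MN (lt1.le.trans PM) iMN sM (EN hy) hyM (d2.mono CM), v2, wt_one (K4 hs),
      wt_one (K5 hs), a4⟩
  obtain ⟨c, hc, hsc⟩ := extend3 h.sat hN MN CM (ePh ▸ h.l2) iMN iM (ePh ▸ h.i2) (hP0 ▸ PM) (hP0 ▸ PN.trans bC) hsA hsM
    (bC hsA.1)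
  rw [hP0] at hsc
  have sN : s * c ∈ nz N := mul_mem hsA.1 (cz_le_nz N hc)
  exact final pgP (hs.mono PS) lt1.le MN CM h.l2 h.l1 iP iMN iM h.i2 h.i1 PN PM (PN.trans bC) (PN.trans bL)
    (PN.trans bP) hsc.1 sN (mul_mem hsM (cz_le_nz M (cz_anti MN hc))) (bP sN) (wt_cz hc le_rfl v1) (wt_cz hc MN v2)
    (wt_cz hc CN v3) (wt_cz hc (h.lL.trans EN) v4) hC hNN he (fun h' => hyx (h' y (EN hy) x xN))
    (fun h' => hgT (mem_trv_comm (bC (PN hg)) fun a ha => h' a ha g hg)) hw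

end TD

end Cfsg.Agent.SR3
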