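import Mathlib
import Cfsg.Agent.SR3.A

/-! Commutator calculations for the Jordan block case. -/

set_option autoImplicit false
set_option linter.unusedSectionVars false

namespace Cfsg.Agent.SR3

open Subgroup Cfsg.Agent.Fusion Cfsg.Agent.Fusion.FS Cfsg.Agent.Inv.Es
open scoped commutatorElement

variable {G : Type*} [Group G] {p : ℕ} [hp : Fact p.Prime]

theorem calcQ (hp2 : p ≠ 2) {E : Subgroup G} (h2 : ∀ a ∈ E, ∀ b ∈ E, ∀ c ∈ E, Commute a ⁅b, c⁆)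
    (h3 : ∀ a ∈ E, ∀ b ∈ E, ⁅a, b⁆ ^ p = 1) {x y c d φ : G} (hy : y ∈ E) (hc : c ∈ E) (hd : d ∈ E) (hφE : φ ∈ E)
    (hφ : ∀ a ∈ E, Commute φ a) (e1 : x * y * x⁻¹ = c⁻¹ * y) (e2 : x * c * x⁻¹ = d⁻¹ * c) (e3 : x * d * x⁻¹ = φ * d) :
    ⁅c, d⁆ = x * ⁅c, d⁆ * x⁻¹ ∧ ⁅c, d⁆⁻¹ * ⁅y, d⁆ = x * ⁅y, d⁆ * x⁻¹ ∧
      ⁅c, d⁆⁻¹ * (⁅y, d⁆ * ⁅c, y⁆) = x * ⁅c, y⁆ * x⁻¹ ∧ (c ^ p)⁻¹ * y ^ p = x * y ^ p * x⁻¹ ∧
      (d ^ p)⁻¹ * c ^ p = x * c ^ p * x⁻¹ := by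
  have cj : ∀ a b : G, x * ⁅a, b⁆ * x⁻¹ = ⁅x * a * x⁻¹, x * b * x⁻¹⁆ := fun a b => by
    simp only [commutatorElement_def]; group
  have L : ∀ a ∈ E, ∀ b ∈ E, ∀ g ∈ E, ⁅a * b, g⁆ = ⁅a, g⁆ * ⁅b, g⁆ := fun a ha b hb g hg => by
    rw [PGrp.commutator_mul_left_of_commute (h2 a ha b hb g hg)]
    exact (h2 _ (mul_mem (mul_mem (mul_mem hb hg) (inv_mem hb)) (inv_mem hg)) a ha g hg).eq
  have R : ∀ a ∈ E, ∀ b ∈ E, ∀ g ∈ E, ⁅g, a * b⁆ = ⁅g, a⁆ * ⁅g, b⁆ := fun a ha b hb g hg =>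
    PGrp.commutator_mul_right_of_commute (h2 a ha g hg b hb)
  have I : ∀ a ∈ E, ∀ g ∈ E, ⁅a⁻¹, g⁆ = ⁅a, g⁆⁻¹ := fun a ha g hg =>
    PGrp.commutator_inv_left_of_commute (h2 a ha a ha g hg)
  have I' : ∀ a ∈ E, ∀ g ∈ E, ⁅g, a⁻¹⁆ = ⁅g, a⁆⁻¹ := fun a ha g hg => by
    rw [← commutatorElement_inv a⁻¹ g, I a ha g hg, commutatorElement_inv, commutatorElement_inv]
  have F : ∀ g ∈ E, ⁅g, φ * d⁆ = ⁅g, d⁆ := fun g hg => by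
    rw [R φ hφE d hd g hg, commutatorElement_eq_one_iff_commute.2 (hφ g hg).symm, one_mul]
  have P : ∀ a ∈ E, ∀ b ∈ E, (a⁻¹ * b) ^ p = (a ^ p)⁻¹ * b ^ p := fun a ha b hb => by
    rw [PGrp.mul_pow_of_commute_of_odd (hp.out.odd_of_ne_two hp2) (h2 _ (inv_mem ha) b hb _ (inv_mem ha))
      (h2 _ hb b hb _ (inv_mem ha)) (h3 b hb _ (inv_mem ha)), inv_pow]
  refine ⟨?_, ?_, ?_, ?_, ?_⟩
  · rw [cj, e2, e3, F _ (mul_mem (inv_mem hd) hc), L _ (inv_mem hd) c hc d hd, I d hd d hd]; simp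
  · rw [cj, e1, e3, F _ (mul_mem (inv_mem hc) hy), L _ (inv_mem hc) y hy d hd, I c hc d hd]
  · rw [cj, e1, e2, L _ (inv_mem hd) c hc _ (mul_mem (inv_mem hc) hy), R _ (inv_mem hc) y hy _ (inv_mem hd),
      R _ (inv_mem hc) y hy c hc, I d hd y hy, I d hd _ (inv_mem hc), I' c hc d hd, I' c hc c hc]
    simp [mul_assoc]
  · rw [← conj_pow, e1, P c hc y hy]
  · rw [← conj_pow, e2, P d hd c hc]

theorem calcG [Finite G] (hp2 : p ≠ 2) {E U R : Subgroup G} (hE : E ≤ nz R) (hU : U ≤ E) (h1 : ∀ a ∈ E, ∀ b ∈ E, ⁅a, b⁆ ∈ U)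
    (h2 : ∀ u ∈ U, ∀ a ∈ E, ⁅u, a⁆ ∈ R) (h3 : ∀ u ∈ U, u ^ p ∈ R) {x y c d φ : G} (hx : x ∈ nz R) (hy : y ∈ E)
    (hc : c ∈ E) (hd : d ∈ E) (hφ : φ ∈ U) (e1 : x * y * x⁻¹ = c⁻¹ * y) (e2 : x * c * x⁻¹ = d⁻¹ * c)
    (e3 : x * d * x⁻¹ = φ * d) :
    Cg R ⁅c, d⁆ (x * ⁅c, d⁆ * x⁻¹) ∧ Cg R (⁅c, d⁆⁻¹ * ⁅y, d⁆) (x * ⁅y, d⁆ * x⁻¹) ∧
      Cg R (⁅c, d⁆⁻¹ * (⁅y, d⁆ * ⁅c, y⁆)) (x * ⁅c, y⁆ * x⁻¹) ∧ Cg R ((c ^ p)⁻¹ * y ^ p) (x * y ^ p * x⁻¹) ∧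
      Cg R ((d ^ p)⁻¹ * c ^ p) (x * c ^ p * x⁻¹) := by
  obtain ⟨Q, _, π, h⟩ := exq R
  lift x to nz R using hx
  lift y to nz R using hE hy
  lift c to nz R using hE hc
  lift d to nz R using hE hd
  lift φ to nz R using hE (hU hφ)
  have m : ∀ a : nz R, (a : G) ∈ E → π a ∈ (E.subgroupOf (nz R)).map π := fun a ha => ⟨a, ha, rfl⟩
  obtain ⟨k1, k2, k3, k4, k5⟩ := calcQ (E := (E.subgroupOf (nz R)).map π) hp2 (by
      rintro _ ⟨a, ha, rfl⟩ _ ⟨b, hb, rfl⟩ _ ⟨c, hc, rfl⟩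
      rw [← map_commutatorElement]
      exact (q_comm h (a := ⁅b, c⁆) (h2 _ (h1 _ hb _ hc) _ ha)).symm) (by
      rintro _ ⟨a, ha, rfl⟩ _ ⟨b, hb, rfl⟩
      rw [← map_commutatorElement, ← map_pow, h]
      exact h3 _ (h1 _ ha _ hb)) (m y hy) (m c hc) (m d hd) (m φ (hU hφ)) (by
      rintro _ ⟨a, ha, rfl⟩
      exact q_comm h (h2 _ hφ _ ha)) (x := π x)
    (by simp only [← map_mul, ← map_inv]; exact congrArg π (Subtype.ext e1))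
    (by simp only [← map_mul, ← map_inv]; exact congrArg π (Subtype.ext e2))
    (by simp only [← map_mul, ← map_inv]; exact congrArg π (Subtype.ext e3))
  simp only [← map_commutatorElement, ← map_pow, ← map_inv, ← map_mul, q_cg h] at k1 k2 k3 k4 k5
  exact ⟨k1, k2, k3, k4, k5⟩

theorem calc6Q {M : Type*} [CommGroup M] (ι : M →* G) {x y : G} {a0 a1 a2 a3 : M} (e0 : x * y * x⁻¹ = ι a0 * y)
    (e1 : x * ι a0 * x⁻¹ = ι (a1 * a0)) (e2 : x * ι a1 * x⁻¹ = ι (a2 * a1)) (e3 : x * ι a2 * x⁻¹ = ι (a3 * a2))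
    (e4 : x * ι a3 * x⁻¹ = ι a3) (n : ℕ) :
    x ^ n * y * (x ^ n)⁻¹ = ι (a0 ^ n * a1 ^ n.choose 2 * a2 ^ n.choose 3 * a3 ^ n.choose 4) * y := by
  induction n with
  | zero => simp
  | succ n ih =>
    have e : x ^ (n + 1) * y * (x ^ (n + 1))⁻¹ = x * (x ^ n * y * (x ^ n)⁻¹) * x⁻¹ := by rw [pow_succ']; group
    have f : ∀ u v : G, x * (u * v) * x⁻¹ = x * u * x⁻¹ * (x * v * x⁻¹) := fun u v => by group
    rw [e, ih, f, e0, ← mul_assoc]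
    congr 1
    simp only [map_mul ι (_ * _), map_mul ι (a0 ^ n), map_pow, f, ← conj_pow, e1, e2, e3, e4]
    simp only [← map_pow, ← map_mul]
    congr 1
    rw [show (n + 1).choose 2 = n + n.choose 2 by rw [Nat.choose_succ_succ' n 1, Nat.choose_one_right],
      Nat.choose_succ_succ' n 2, Nat.choose_succ_succ' n 3]
    simp only [mul_pow, pow_add, pow_one]
    ac_rfl

theorem calc6 [Finite G] (h5 : 5 ≤ p) {X R : Subgroup G} (hX : X ≤ nz R) (hc : ∀ a ∈ X, ∀ b ∈ X, ⁅a, b⁆ ∈ R)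
    {x y a0 a1 a2 a3 : G} (hx : x ∈ nz R) (hy : y ∈ nz R) (h0 : a0 ∈ X) (h1 : a1 ∈ X) (h2 : a2 ∈ X) (h3 : a3 ∈ X)
    (e0 : x * y * x⁻¹ = a0 * y) (e1 : Cg R (a1 * a0) (x * a0 * x⁻¹)) (e2 : Cg R (a2 * a1) (x * a1 * x⁻¹))
    (e3 : Cg R (a3 * a2) (x * a2 * x⁻¹)) (e4 : Cg R a3 (x * a3 * x⁻¹)) (p1 : a1 ^ p ∈ R) (p2 : a2 ^ p ∈ R)
    (p3 : a3 ^ p ∈ R) : Cg R (a0 ^ p * y) (x ^ p * y * (x ^ p)⁻¹) := by
  obtain ⟨Q, _, π, h⟩ := exq R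
  lift x to nz R using hx
  lift y to nz R using hy
  lift a0 to nz R using hX h0
  lift a1 to nz R using hX h1
  lift a2 to nz R using hX h2
  lift a3 to nz R using hX h3
  let M := (X.subgroupOf (nz R)).map π
  letI : CommGroup M := { (inferInstance : Group M) with
    mul_comm := by
      rintro ⟨_, a, ha, rfl⟩ ⟨_, b, hb, rfl⟩
      exact Subtype.ext (q_comm h (hc _ ha _ hb)).eq }
  have key := calc6Q M.subtype (x := π x) (y := π y) (a0 := ⟨π a0, a0, h0, rfl⟩) (a1 := ⟨π a1, a1, h1, rfl⟩)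
    (a2 := ⟨π a2, a2, h2, rfl⟩) (a3 := ⟨π a3, a3, h3, rfl⟩)
    (by change _ = π a0 * _; simp only [← map_mul, ← map_inv]; exact congrArg π (Subtype.ext e0))
    (by change π x * π a0 * _ = π a1 * π a0; simp only [← map_mul, ← map_inv]; exact ((q_cg h).2 e1).symm)
    (by change π x * π a1 * _ = π a2 * π a1; simp only [← map_mul, ← map_inv]; exact ((q_cg h).2 e2).symm)
    (by change π x * π a2 * _ = π a3 * π a2; simp only [← map_mul, ← map_inv]; exact ((q_cg h).2 e3).symm)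
    (by change π x * π a3 * _ = π a3; simp only [← map_mul, ← map_inv]; exact ((q_cg h).2 e4).symm) p
  have z : ∀ (a : nz R) (k : ℕ), (a : G) ^ p ∈ R → k ≠ 0 → k < 5 → π a ^ p.choose k = 1 := fun a k ha hk hk' =>
    PGrp.pow_eq_one_of_dvd (by rw [← map_pow, h]; exact ha) (hp.out.dvd_choose_self hk (by omega))
  simp only [map_mul, map_pow] at key
  change _ = π a0 ^ p * π a1 ^ _ * π a2 ^ _ * π a3 ^ _ * _ at key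
  rw [z a1 2 p1 (by omega) (by omega), z a2 3 p2 (by omega) (by omega), z a3 4 p3 (by omega) (by omega)] at key
  simp only [mul_one, ← map_pow, ← map_inv, ← map_mul] at key
  exact (q_cg h).1 key.symm

end Cfsg.Agent.SR3
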