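import Mathlib
import Cfsg.Agent.SR3.B
import Cfsg.Agent.SR3.C

/-! Essential subgroups of rank three: the Jordan block case. -/

set_option autoImplicit false
set_option linter.unusedSectionVars false

namespace Cfsg.Agent.SR3

open Subgroup Cfsg.Agent.Fusion Cfsg.Agent.Fusion.FS Cfsg.Agent.Inv.Es
open scoped commutatorElement

variable {G : Type*} [Group G] {p : ℕ} [hp : Fact p.Prime] [Finite G] {F : FS G} {E X1 X2 : Subgroup G}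

theorem rel_cancel {A B C : Subgroup G} (h1 : A ≤ B) (h2 : B ≤ C) {n : ℕ} (i1 : A.relIndex B = p)
    (i2 : A.relIndex C = p ^ (n + 1)) : B.relIndex C = p ^ n := by
  have := relIndex_mul_relIndex A B C h1 h2
  rw [i1, i2, pow_succ'] at this
  exact Nat.eq_of_mul_eq_mul_left hp.out.pos this

theorem rel_cancel' {A B C : Subgroup G} (h1 : A ≤ B) (h2 : B ≤ C) {n : ℕ} (i1 : B.relIndex C = p)
    (i2 : A.relIndex C = p ^ (n + 1)) : A.relIndex B = p ^ n := by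
  have := relIndex_mul_relIndex A B C h1 h2
  rw [i1, i2, pow_succ] at this
  exact Nat.eq_of_mul_eq_mul_right hp.out.pos this

theorem rel2 {A B C : Subgroup G} (h1 : A ≤ B) (h2 : B ≤ C) (i1 : A.relIndex B = p) (i2 : B.relIndex C = p) :
    A.relIndex C = p ^ 2 := by rw [← relIndex_mul_relIndex A B C h1 h2, i1, i2, pow_two]

/-- an invariant flag, no transvections -/
structure JD (p : ℕ) (F : FS G) (E X1 X2 : Subgroup G) : Prop where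
  sat : F.Sat p
  ess : F.Ess p E
  l1 : Ph E ≤ X1
  l2 : X1 ≤ X2
  l3 : X2 ≤ E
  i1 : (Ph E).relIndex X1 = p
  i2 : X1.relIndex X2 = p
  i3 : X2.relIndex E = p
  n1 : F.S ⊓ nz E ≤ nz X1
  n2 : F.S ⊓ nz E ≤ nz X2
  nT : ∀ L C x, ¬ TD p F E L C x

namespace JD

theorem pg (h : JD p F E X1 X2) : IsPGroup p E := h.sat.pg_le h.ess.le
theorem EN (h : JD p F E X1 X2) : E ≤ F.S ⊓ nz E := le_NS h.ess.le
theorem nP (_ : JD p F E X1 X2) : F.S ⊓ nz E ≤ nz (Ph E) := inf_le_right.trans (nz_le_nz_Ph E)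
theorem c3 (h : JD p F E X1 X2) : ∀ a ∈ E, ∀ g ∈ F.S ⊓ nz E, ⁅a, g⁆ ∈ X2 :=
  comm_of_prime (h.sat.pg_le inf_le_left) h.l3 h.EN h.i3 inf_le_right h.n2
theorem c2 (h : JD p F E X1 X2) : ∀ a ∈ X2, ∀ g ∈ F.S ⊓ nz E, ⁅a, g⁆ ∈ X1 :=
  comm_of_prime (h.sat.pg_le inf_le_left) h.l2 (h.l3.trans h.EN) h.i2 h.n2 h.n1
theorem c1 (h : JD p F E X1 X2) : ∀ a ∈ X1, ∀ g ∈ F.S ⊓ nz E, ⁅a, g⁆ ∈ Ph E :=
  comm_of_prime (h.sat.pg_le inf_le_left) h.l1 (h.l2.trans (h.l3.trans h.EN)) h.i1 h.n1 h.nP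
theorem c0 (h : JD p F E X1 X2) : ∀ a ∈ E, ∀ b ∈ E, ⁅a, b⁆ ∈ Ph E := fun _ ha _ hb =>
  trv_comm (le_trv_Ph h.pg hb) ha

theorem beta (h : JD p F E X1 X2) {g : G} (hg : g ∈ F.S ⊓ nz E) (hgE : g ∉ E) {u : G} (hu : u ∈ X2) (hu' : u ∉ X1) :
    ⁅u, g⁆ ∉ Ph E := fun h0 => by
  have hT : g ∈ trv X2 (Ph E) := mem_trv_comm (h.nP hg) fun a ha => comm_sup h.nP (h.l2.trans (h.l3.trans h.EN))
    (h.EN (h.l3 hu)) hg (fun a ha => h.c1 a ha g hg) h0 a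
    ((PGrp.sup_zpowers_eq_of_relIndex_prime hp.out h.i2 h.l2 hu hu').ge ha)
  obtain ⟨y, hy, hyX⟩ := exists_notMem h.i3
  have eE := PGrp.sup_zpowers_eq_of_relIndex_prime hp.out h.i3 h.l3 hy hyX
  have hz := h.c3 y hy g hg
  have hzP : ⁅y, g⁆ ∉ Ph E := fun h' => hgE (mem_of_trv h.sat h.ess hg.1 hg.2 (mem_trv_comm (h.nP hg) fun a ha =>
    comm_sup h.nP (h.l3.trans h.EN) (h.EN hy) hg (fun a ha => trv_comm hT ha) h' a (eE.ge ha)))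
  have lL : Ph E ⊔ zpowers ⁅y, g⁆ ≤ X2 := sup_le (h.l1.trans h.l2) (zpowers_le.2 hz)
  have iL := PGrp.relIndex_sup_zpowers hp.out (h.nP (h.EN (h.l3 hz))) (pow_mem_Ph h.pg (h.l3 hz)) hzP
  have nL := nz_of_Ph h.pg (lL.trans h.l3) le_sup_left
  have gL := trv_le_nz_of_le le_sup_left lL hT
  exact h.nT _ X2 g ⟨h.sat, h.ess, le_sup_left, lL, h.l3, iL,
    by simpa using rel_cancel (n := 1) le_sup_left lL iL (rel2 h.l1 h.l2 h.i1 h.i2), h.i3, hg.1, hg.2, hgE,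
    mem_trv_comm gL fun a ha => comm_sup le_rfl (h.l3.trans nL) (nL hy) gL
      (fun a ha => mem_sup_left (trv_comm hT ha)) (mem_sup_right (mem_zpowers _)) a (eE.ge ha), hT⟩

theorem alpha (h : JD p F E X1 X2) {g : G} (hg : g ∈ F.S ⊓ nz E) (hgE : g ∉ E) {y : G} (hy : y ∈ E) (hy' : y ∉ X2) :
    ⁅y, g⁆ ∉ X1 := fun h0 => by
  have l1 := h.l2.trans h.l3
  have hT : ∀ a ∈ E, ⁅a, g⁆ ∈ X1 := fun a ha => comm_sup h.n1 (h.l3.trans h.EN) (h.EN hy) hg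
    (fun a ha => h.c2 a ha g hg) h0 a ((PGrp.sup_zpowers_eq_of_relIndex_prime hp.out h.i3 h.l3 hy hy').ge ha)
  obtain ⟨u, hu, huX⟩ := exists_notMem h.i2
  have f : ∀ e ∈ E, e ∈ trv (X1 ⊔ zpowers g) X1 := fun e he => mem_trv_comm (h.n1 (h.EN he))
    (comm_sup h.n1 (l1.trans h.EN) hg (h.EN he) (fun a ha => h.l1 (h.c0 a (l1 ha) e he)) (csym (hT e he)))
  have f' : ∀ e ∈ E, e ∈ trv X1 (Ph E) := fun e he => trv_mono_left l1 (le_trv_Ph h.pg he)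
  obtain ⟨j, hj⟩ := exists_mul_mem_trv h.l1 ((sup_le (l1.trans h.EN) (zpowers_le.2 hg)).trans h.nP) le_sup_left h.i1 rfl
    (f u (h.l3 hu)) (f' u (h.l3 hu))
    (fun h' => h.beta hg hgE hu huX (csym (trv_comm h' (mem_sup_right (mem_zpowers g))))) (f y hy) (f' y hy)
  have hw : (u ^ j)⁻¹ * y ∈ E := mul_mem (inv_mem (pow_mem (h.l3 hu) j)) hy
  have hw' : (u ^ j)⁻¹ * y ∉ X1 := fun h' => hy' ((mul_mem_cancel_left (inv_mem (pow_mem hu j))).1 (h.l2 h'))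
  have lC : X1 ⊔ zpowers ((u ^ j)⁻¹ * y) ≤ E := sup_le l1 (zpowers_le.2 hw)
  have iC := PGrp.relIndex_sup_zpowers hp.out (h.n1 (h.EN hw)) (h.l1 (pow_mem_Ph h.pg hw)) hw'
  exact h.nT X1 _ g ⟨h.sat, h.ess, h.l1, le_sup_left, lC, h.i1, iC,
    by simpa using rel_cancel (n := 1) le_sup_left lC iC (rel2 h.l2 h.l3 h.i2 h.i3), hg.1, hg.2, hgE,
    mem_trv_comm (h.n1 hg) hT, mem_trv_comm (h.nP hg) (comm_sup h.nP (l1.trans h.EN) (h.EN hw) hg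
      (fun a ha => h.c1 a ha g hg) (csym (trv_comm hj (mem_sup_right (mem_zpowers g)))))⟩

theorem idx (h : JD p F E X1 X2) : E.relIndex (F.S ⊓ nz E) = p := by
  obtain ⟨y, hy, hyX⟩ := exists_notMem h.i3
  exact relIndex_NS_of_plane h.sat h.ess h.l2 (h.EN.trans h.n1) h.l3 h.i2
    (PGrp.sup_zpowers_eq_of_relIndex_prime hp.out h.i3 h.l3 hy hyX)
    (fun g hg => mem_trv_comm (h.n2 hg) fun a ha => h.c3 a ha g hg)
    (fun g hg => mem_trv_comm (h.n1 hg) fun a ha => h.c2 a ha g hg)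
    fun g hg h' => by_contra fun hgE => h.alpha hg hgE hy hyX (trv_comm h' hy)

theorem wt_rel (h : JD p F E X1 X2) {t : G} (ht : t ∈ F.aut E) (t1 : t ∈ nz X1) (t2 : t ∈ nz X2) {a b c : ℤ}
    (w1 : Wt t E X2 a) (w2 : Wt t X2 X1 b) (w3 : Wt t X1 (Ph E) c) :
    ∃ ν : ℤ, (p : ℤ) ∣ b - a * ν ∧ (p : ℤ) ∣ c - b * ν := by
  obtain ⟨c0, hc0, ht'⟩ := extend3 h.sat h.ess.2.1 h.l3 h.l2 h.l1 h.i3 h.i2 h.i1 h.n2 h.n1 ht t2 t1
  obtain ⟨ν, w0⟩ := exists_wt h.EN inf_le_right h.idx (mul_mem ht.1 (cz_le_nz E hc0)) ht'.1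
  obtain ⟨x, hx, hxE⟩ := exists_notMem h.idx
  obtain ⟨y, hy, hyX⟩ := exists_notMem h.i3
  obtain ⟨u, hu, huX⟩ := exists_notMem h.i2
  have l1 := h.l2.trans h.l3
  exact ⟨ν, bil h.n1 h.EN le_rfl h.l3 h.EN (TD.wt_cz hc0 le_rfl w1) w0 (TD.wt_cz hc0 h.l3 w2) h.c2
      (fun z hz => h.l1 (pow_mem_Ph h.pg (h.l3 hz))) h.c2 (fun a ha b hb => h.l1 (h.c0 a ha b hb)) hy hx
      (h.c3 y hy x hx) (h.alpha hx hxE hy hyX),
    bil h.nP (h.l3.trans h.EN) le_rfl h.l2 h.EN (TD.wt_cz hc0 h.l3 w2) w0 (TD.wt_cz hc0 l1 w3) h.c1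
      (fun z hz => pow_mem_Ph h.pg (l1 hz)) h.c1 (fun a ha b hb => h.c0 a (h.l3 ha) b hb) hu hx
      (h.c2 u hu x hx) (h.beta hx hxE hu huX)⟩

theorem two (h5 : 5 ≤ p) : ¬ (p : ℤ) ∣ 2 := fun h => by
  have := Int.le_of_dvd (by norm_num) h
  omega

theorem not_nz1 (h : JD p F E X1 X2) (h5 : 5 ≤ p) : ¬ F.aut E ≤ nz X1 := fun hA => by
  obtain ⟨x, hx, hxE⟩ := exists_notMem h.idx
  have xA := NS_le_aut h.ess.le hx
  have l1 := h.l2.trans h.l3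
  have aP := (F.aut_le_nz E).trans (nz_le_nz_Ph E)
  have T : ncl (F.aut E) x ≤ trv X1 (Ph E) := ncl_le_trv hA aP (mem_trv_comm (h.nP hx) fun a ha => h.c1 a ha x hx)
  obtain ⟨t, ht, hw⟩ := plane_neg l1 ((comm_le_Ph h.pg).trans h.l1) (fun a ha => h.l1 (pow_mem_Ph h.pg ha))
    (rel2 h.l2 h.l3 h.i2 h.i3) ((ncl_le xA).trans (F.aut_le_nz E)) ((ncl_le xA).trans hA)
    (ncl_le_pres' (exists_pow_of_S h.sat hx.1)) fun hm => hxE (ess_mem h.sat h.ess hx.1 hx.2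
      (pmod_cz_of_Ph h.pg (pmod_trv_trans (h.pg.to_le l1) (l1.trans (h.EN.trans h.nP)) hm (.of_le T))))
  obtain ⟨ν, k1, k2⟩ := h.wt_rel (ncl_le xA ht) (hA (ncl_le xA ht))
    (mem_nz_of_forall fun w hw' => (hw w (h.l3 hw')).mem h.l2 (inv_mem hw')) (a := -1) (b := -1)
    (fun w hw' => by simpa using (hw w hw').mono h.l2) (fun w hw' => by simpa using hw w (h.l3 hw')) (wt_one (T ht))
  exact two h5 (by simpa [show (1 : ℤ) - -1 * ν - (-1 - -1 * ν) = 2 by ring] using dvd_sub k2 k1)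

theorem not_nz2 (h : JD p F E X1 X2) (h5 : 5 ≤ p) : ¬ F.aut E ≤ nz X2 := fun hA => by
  obtain ⟨x, hx, hxE⟩ := exists_notMem h.idx
  have xA := NS_le_aut h.ess.le hx
  have aP := (F.aut_le_nz E).trans (nz_le_nz_Ph E)
  have T : ncl (F.aut E) x ≤ trv E X2 :=
    ncl_le_trv (F.aut_le_nz E) hA (mem_trv_comm (h.n2 hx) fun a ha => h.c3 a ha x hx)
  obtain ⟨t, ht, hw⟩ := plane_neg (h.l1.trans h.l2) ((commutator_mono h.l3 h.l3).trans (comm_le_Ph h.pg))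
    (fun a ha => pow_mem_Ph h.pg (h.l3 ha)) (rel2 h.l1 h.l2 h.i1 h.i2) ((ncl_le xA).trans hA) ((ncl_le xA).trans aP)
    (ncl_le_pres' (exists_pow_of_S h.sat hx.1)) fun hm => hxE (ess_mem h.sat h.ess hx.1 hx.2
      (pmod_cz_of_Ph h.pg (pmod_trv_trans (h.pg.to_le h.l3) (h.l3.trans (h.EN.trans h.nP)) (.of_le T) hm)))
  obtain ⟨ν, k1, k2⟩ := h.wt_rel (ncl_le xA ht)
    (mem_nz_of_forall fun w hw' => (hw w (h.l2 hw')).mem h.l1 (inv_mem hw')) (hA (ncl_le xA ht)) (b := -1) (c := -1)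
    (wt_one (T ht)) (fun w hw' => by simpa using (hw w hw').mono h.l1) (fun w hw' => by simpa using hw w (h.l2 hw'))
  have := dvd_add k1 k2
  rw [show (-1 : ℤ) - 1 * ν + (-1 - -1 * ν) = -2 by ring, dvd_neg] at this
  exact two h5 this

end JD

theorem exists_JD (hF : F.Sat p) (hE : F.Ess p E) (hi : (Ph E).relIndex E = p ^ 3) (nT : ∀ L C x, ¬ TD p F E L C x)
    {X : Subgroup G} (h1 : Ph E ≤ X) (h2 : X ≤ E) (hn : F.S ⊓ nz E ≤ nz X) :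
    X = Ph E ∨ X = E ∨ (∃ X2, JD p F E X X2) ∨ ∃ X1, JD p F E X1 X := by
  have pgN : IsPGroup p ↥(F.S ⊓ nz E) := hF.pg_le inf_le_left
  have EN := le_NS hE.le
  have nP : F.S ⊓ nz E ≤ nz (Ph E) := inf_le_right.trans (nz_le_nz_Ph E)
  by_cases e1 : X = Ph E
  · exact .inl e1
  by_cases e2 : X = E
  · exact .inr (.inl e2)
  obtain ⟨X1, l1, l2, i1, -, -, n1⟩ := PGrp.exists_step pgN (h2.trans EN) hn nP (lt_of_le_of_ne h1 (Ne.symm e1))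
  obtain ⟨X2, l3, l4, i2, -, -, n2⟩ := PGrp.exists_step pgN EN inf_le_right hn (lt_of_le_of_ne h2 e2)
  by_cases e3 : X1 = X
  · subst e3
    exact .inr (.inr (.inl ⟨X2, hF, hE, l1, l3, l4, i1, i2,
      by simpa using rel_cancel (n := 1) l3 l4 i2 (rel_cancel (n := 2) l1 h2 i1 hi), n1, n2, nT⟩))
  have j1 := rel_cancel (n := 2) l1 (l2.trans h2) i1 hi
  obtain ⟨X3, l5, l6, i3, -, -, -⟩ := PGrp.exists_step pgN (h2.trans EN) hn n1 (lt_of_le_of_ne l2 e3)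
  have j2 : X3.relIndex E = p := by simpa using rel_cancel (n := 1) l5 (l6.trans h2) i3 j1
  obtain rfl := (PGrp.eq_or_eq_of_relIndex_prime hp.out j2 l6 h2).resolve_right e2
  exact .inr (.inr (.inr ⟨X1, hF, hE, l1, l2, h2, i1, i3, j2, n1, hn, nT⟩))

theorem irr (hF : F.Sat p) (hE : F.Ess p E) (hi : (Ph E).relIndex E = p ^ 3) (nT : ∀ L C x, ¬ TD p F E L C x)
    (h5 : 5 ≤ p) {X : Subgroup G} (h1 : Ph E ≤ X) (h2 : X ≤ E) (hn : F.aut E ≤ nz X) : X = Ph E ∨ X = E := by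
  rcases exists_JD hF hE hi nT h1 h2 ((NS_le_aut hE.le).trans hn) with h | h | ⟨_, h⟩ | ⟨_, h⟩
  exacts [.inl h, .inr h, absurd hn (h.not_nz1 h5), absurd hn (h.not_nz2 h5)]

theorem exists_JD' (hF : F.Sat p) (hE : F.Ess p E) (hi : (Ph E).relIndex E = p ^ 3)
    (nT : ∀ L C x, ¬ TD p F E L C x) : ∃ X1 X2, JD p F E X1 X2 := by
  obtain ⟨e, he, he'⟩ := exists_notMem_of_relIndex hi
  obtain ⟨X1, l1, l2, i1, -, -, n1⟩ := PGrp.exists_step (hF.pg_le (inf_le_left : F.S ⊓ nz E ≤ _)) (le_NS hE.le)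
    inf_le_right (inf_le_right.trans (nz_le_nz_Ph E)) (lt_of_le_not_ge (Ph_le E) fun h => he' (h he))
  rcases exists_JD hF hE hi nT l1 l2 n1 with h | h | ⟨_, h⟩ | ⟨_, h⟩
  · rw [h, relIndex_self] at i1; exact absurd i1 hp.out.one_lt.ne
  · rw [h, hi] at i1
    exact absurd (Nat.pow_right_injective hp.out.two_le (i1.trans (pow_one p).symm)) (by norm_num)
  exacts [⟨_, _, h⟩, ⟨_, _, h⟩]

end Cfsg.Agent.SR3
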