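import Mathlib
import Cfsg.Agent.SR3.D

/-! Essential subgroups of rank three in sectional rank three are normal. -/

set_option autoImplicit false
set_option linter.unusedSectionVars false

namespace Cfsg.Agent.SR3

open Subgroup Cfsg.Agent.Fusion Cfsg.Agent.Fusion.FS Cfsg.Agent.Inv.Es
open scoped commutatorElement

variable {G : Type*} [Group G] {p : ℕ} [hp : Fact p.Prime] [Finite G] {F : FS G} {E X1 X2 : Subgroup G}

theorem comm_cj {Y : Subgroup G} {g a b : G} (h : ⁅g⁻¹ * a * g, g⁻¹ * b * g⁆ ∈ Y) : ⁅a, b⁆ ∈ cj g Y :=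
  mem_cj.2 (mem_of_eq h (by simp only [commutatorElement_def]; group))

theorem comm_cj' {Y : Subgroup G} {g a b : G} (h : ⁅a, b⁆ ∈ cj g Y) : ⁅g⁻¹ * a * g, g⁻¹ * b * g⁆ ∈ Y :=
  mem_of_eq (mem_cj.1 h) (by simp only [commutatorElement_def]; group)

theorem cg_of_comm {Y : Subgroup G} {x a : G} (ha : a ∈ nz Y) (h : ⁅a, x⁆ ∈ Y) : Cg Y a (x * a * x⁻¹) :=
  show a⁻¹ * (x * a * x⁻¹) ∈ Y from mem_of_eq (conj_mem_of_nz' ha (csym h)) (by rw [commutatorElement_def]; group)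

theorem mem_of_cg_mul {Y : Subgroup G} {a b : G} (hb : b ∈ nz Y) (h : Cg Y (a * b) b) : a ∈ Y := by
  have : b * ((a * b)⁻¹ * b)⁻¹ * b⁻¹ ∈ Y := conj_mem_of_nz hb (inv_mem h)
  exact mem_of_eq this (by group)

theorem calc7Q {Q : Type*} [Group Q] {X Y C D W W' : Q} {k n : ℕ} (h1 : C⁻¹ ^ n * Y = X ^ n * Y * (X ^ n)⁻¹)
    (h2 : X ^ n = D ^ k * W') (h3 : Commute W' Y) (h4 : Commute D ⁅D, Y⁆) (h5 : (C ^ n)⁻¹ * Y ^ n = X * Y ^ n * X⁻¹)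
    (h6 : W * ⁅C, Y⁆ ^ k = Y ^ n) (h7 : Commute W X) (h8 : ⁅Y, D⁆ * ⁅C, Y⁆ = X * ⁅C, Y⁆ * X⁻¹)
    (h9 : Commute ⁅Y, D⁆ ⁅C, Y⁆) (h10 : Commute W ⁅Y, D⁆) : ⁅Y, D⁆ ^ (2 * k) = 1 := by
  have a1 : (C ^ n)⁻¹ = ⁅D, Y⁆ ^ k := by
    rw [← PGrp.commutator_pow_left_of_commute h4, ← inv_pow, eq_mul_inv_of_mul_eq h1, h2, commutatorElement_def,
      mul_assoc (D ^ k) W', h3.eq]
    group
  have a2 : (C ^ n)⁻¹ = ⁅Y, D⁆ ^ k := by
    refine mul_right_cancel (b := Y ^ n) ?_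
    rw [h5, ← h6]
    calc X * (W * ⁅C, Y⁆ ^ k) * X⁻¹ = (X * W * X⁻¹) * (X * ⁅C, Y⁆ * X⁻¹) ^ k := by rw [conj_pow]; group
      _ = _ := by
        rw [← h8, h9.mul_pow, ← h7.eq, mul_inv_cancel_right, ← mul_assoc, (h10.pow_right k).eq, mul_assoc]
  rw [two_mul, pow_add]
  nth_rewrite 1 [← a2]
  rw [a1, ← commutatorElement_inv, inv_pow, inv_mul_cancel]

theorem calc7 {R : Subgroup G} {x y c d w w' : G} {k n : ℕ} (hx : x ∈ nz R) (hy : y ∈ nz R) (hc : c ∈ nz R)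
    (hd : d ∈ nz R) (hw : w ∈ nz R) (hw' : w' ∈ nz R) (h1 : Cg R (c⁻¹ ^ n * y) (x ^ n * y * (x ^ n)⁻¹))
    (h2 : x ^ n = d ^ k * w') (h3 : ⁅w', y⁆ ∈ R) (h4 : ⁅d, ⁅d, y⁆⁆ ∈ R)
    (h5 : Cg R ((c ^ n)⁻¹ * y ^ n) (x * y ^ n * x⁻¹)) (h6 : w * ⁅c, y⁆ ^ k = y ^ n) (h7 : ⁅w, x⁆ ∈ R)
    (h8 : Cg R (⁅y, d⁆ * ⁅c, y⁆) (x * ⁅c, y⁆ * x⁻¹)) (h9 : ⁅⁅y, d⁆, ⁅c, y⁆⁆ ∈ R) (h10 : ⁅w, ⁅y, d⁆⁆ ∈ R) :
    ⁅y, d⁆ ^ (2 * k) ∈ R := by
  obtain ⟨Q, _, π, h⟩ := exq R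
  lift x to nz R using hx
  lift y to nz R using hy
  lift c to nz R using hc
  lift d to nz R using hd
  lift w to nz R using hw
  lift w' to nz R using hw'
  refine (h (⁅y, d⁆ ^ (2 * k))).1 ?_
  have k1 := (q_cg h (a := c⁻¹ ^ n * y) (b := x ^ n * y * (x ^ n)⁻¹)).2 h1
  have k2 := congrArg π (show x ^ n = d ^ k * w' from Subtype.ext h2)
  have k4 := q_comm h (a := d) (b := ⁅d, y⁆) h4
  have k5 := (q_cg h (a := (c ^ n)⁻¹ * y ^ n) (b := x * y ^ n * x⁻¹)).2 h5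
  have k6 := congrArg π (show w * ⁅c, y⁆ ^ k = y ^ n from Subtype.ext h6)
  have k8 := (q_cg h (a := ⁅y, d⁆ * ⁅c, y⁆) (b := x * ⁅c, y⁆ * x⁻¹)).2 h8
  have k9 := q_comm h (a := ⁅y, d⁆) (b := ⁅c, y⁆) h9
  have k10 := q_comm h (a := w) (b := ⁅y, d⁆) h10
  simp only [map_mul, map_pow, map_inv, map_commutatorElement] at k1 k2 k4 k5 k6 k8 k9 k10 ⊢
  exact calc7Q k1 k2 (q_comm h h3) k4 k5 k6 (q_comm h h7) k8 k9 k10

set_option maxHeartbeats 800000 in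
theorem JD.false (h : JD p F E X1 X2) (h5 : 5 ≤ p) (hs : R3 p F.S) (hn : ¬ F.S ≤ nz E) : False := by
  have hi : (Ph E).relIndex E = p ^ 3 := rel3 h.l1 h.l2 h.l3 h.i1 h.i2 h.i3
  have irr := fun {X : Subgroup G} => irr h.sat h.ess hi h.nT h5 (X := X)
  have iE := h.idx
  have EN := h.EN
  have nP := h.nP
  have n1 := h.n1
  have n2 := h.n2
  have c3 := h.c3
  have c2 := h.c2
  have c1 := h.c1
  have al := fun {g : G} => h.alpha (g := g)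
  have be := fun {g : G} => h.beta (g := g)
  have hp2 : p ≠ 2 := by omega
  have NS : F.S ⊓ nz E ≤ F.S := inf_le_left
  have NE : F.S ⊓ nz E ≤ nz E := inf_le_right
  obtain ⟨g, hg, hgN⟩ := SetLike.exists_of_lt (h.sat.lt_NS (lt_of_le_not_ge NS fun h' => hn (h'.trans NE)))
  have hgE : g ∉ nz E := fun h' => hgN ⟨hg.1, h'⟩
  generalize F.S ⊓ nz E = N at *
  have gN : g ∈ nz N := hg.2
  have pgN := h.sat.pg_le NS
  have lP := h.l1.trans h.l2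
  have l1 := h.l2.trans h.l3
  have X2N := h.l3.trans EN
  have X1N := l1.trans EN
  have PN := (Ph_le E).trans EN
  have pwE : ∀ e ∈ E, e ^ p ∈ Ph E := fun e he => pow_mem_Ph h.pg he
  have iE' : (cj g E).relIndex N = p := by rw [← cj_of_nz gN, relIndex_cj, iE]
  have nE' : ¬ E ≤ cj g E := fun h' => hgE (mem_nz_iff.2 (eq_of_le_of_card_le h' (card_cj g E).le).symm)
  have eI : E ⊓ cj g E = X2 ∧ Ph N = X2 := by
    obtain ⟨x, hx, hxE⟩ := exists_notMem iE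
    obtain ⟨y, hy, hyX⟩ := exists_notMem h.i3
    obtain ⟨u, hu, huX⟩ := exists_notMem h.i2
    have k1 : X2 ≤ Ph N := by
      rw [← PGrp.sup_zpowers_eq_of_relIndex_prime hp.out h.i2 h.l2 (c3 y hy x hx) (al hx hxE hy hyX),
        ← PGrp.sup_zpowers_eq_of_relIndex_prime hp.out h.i1 h.l1 (c2 u hu x hx) (be hx hxE hu huX)]
      exact sup_le (sup_le ((Ph_le_iff h.pg).2 ⟨(commutator_mono EN EN).trans (comm_le_Ph pgN), fun e he =>
        pow_mem_Ph pgN (EN he)⟩) (zpowers_le.2 (comm_le_Ph pgN (commutator_mem_commutator (X2N hu) hx))))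
        (zpowers_le.2 (comm_le_Ph pgN (commutator_mem_commutator (EN hy) hx)))
    have k2 := Ph_le_of_relIndex pgN EN iE
    have k3 : Ph N ≤ E ⊓ cj g E := le_inf k2 ((cj_of_nz (nz_le_nz_Ph N gN)).ge.trans (cj_mono k2))
    have k4 := (PGrp.eq_or_eq_of_relIndex_prime hp.out h.i3 (k1.trans k3) inf_le_left).resolve_right
      fun e => nE' (e.ge.trans inf_le_right)
    exact ⟨k4, le_antisymm (k3.trans k4.le) k1⟩
  obtain ⟨eI, ePh⟩ := eI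
  have g2 : g ∈ nz X2 := ePh ▸ nz_le_nz_Ph N gN
  have gW : g ∈ nz (Ph X2) := nz_le_nz_Ph X2 g2
  have nW : N ≤ nz (Ph X2) := n2.trans (nz_le_nz_Ph X2)
  have pg2 := h.pg.to_le h.l3
  generalize hW : Ph X2 = W at gW nW
  have W1 : ∀ a ∈ X2, ∀ b ∈ X2, ⁅a, b⁆ ∈ W := fun a ha b hb => hW ▸ comm_le_Ph pg2 (commutator_mem_commutator ha hb)
  have W2 : ∀ a ∈ X2, a ^ p ∈ W := fun a ha => hW ▸ pow_mem_Ph pg2 ha
  have WP : W ≤ Ph E := hW ▸ (Ph_le_iff pg2).2 ⟨(commutator_mono h.l3 h.l3).trans (comm_le_Ph h.pg),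
    fun a ha => pwE a (h.l3 ha)⟩
  have WP' : W ≤ cj g (Ph E) := (cj_of_nz gW).ge.trans (cj_mono WP)
  have nP' : N ≤ nz (cj g (Ph E)) := by rw [← cj_nz, ← cj_of_nz gN]; exact cj_mono nP
  obtain ⟨y, hy, hyX⟩ := exists_notMem h.i3
  have hx : g * y * g⁻¹ ∈ N := conj_mem_of_nz gN (EN hy)
  have hxE : g * y * g⁻¹ ∉ E := fun h' => hyX (by
    have := conj_mem_of_nz' g2 (eI.le ⟨h', conj_mem_cj_of hy⟩)
    simpa [mul_assoc] using this)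
  have hy0 : g⁻¹ * y * g ∉ E := fun h' => hyX (eI.le ⟨hy, mem_cj.2 h'⟩)
  have hy1 : g⁻¹ * y * g ∈ N := conj_mem_of_nz' gN (EN hy)
  have ex : g⁻¹ * (g * y * g⁻¹) * g = y := by group
  generalize hx0 : g * y * g⁻¹ = x at hx hxE ex
  have hc := c3 y hy x hx
  have hc' := al hx hxE hy hyX
  generalize hc0 : ⁅y, x⁆ = c at hc hc'
  have hd := c2 c hc x hx
  have hd' := be hx hxE hc hc'
  have hd'' : ⁅c, x⁆ ∈ cj g (Ph E) := comm_cj (ex ▸ h.c0 _ (h.l3 (conj_mem_of_nz' g2 hc)) _ hy)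
  generalize hd0 : ⁅c, x⁆ = d at hd hd' hd''
  have eX2 := PGrp.sup_zpowers_eq_of_relIndex_prime hp.out h.i2 h.l2 hc hc'
  have eX1 := PGrp.sup_zpowers_eq_of_relIndex_prime hp.out h.i1 h.l1 hd hd'
  have iW : W.relIndex (Ph E) = p := by
    refine relIndex_eq_of_le (h.pg.to_le (Ph_le E)) ?_ fun h' => hd' ((eq_of_le_of_card_le (h'.trans WP')
      (card_cj g _).le).ge hd'')
    have := hs W X2 (X2N.trans NS) (WP.trans lP) (X2N.trans nW) W1 W2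
    rw [← relIndex_mul_relIndex W _ X2 WP lP, rel2 h.l1 h.l2 h.i1 h.i2] at this
    exact Nat.le_of_mul_le_mul_right (this.trans_eq (by ring : p ^ 3 = p * p ^ 2)) (pow_pos hp.out.pos 2)
  have g1 : g ∈ nz X1 := by
    have e : W ⊔ ⁅X2, N⁆ = X1 := by
      refine le_antisymm (sup_le (WP.trans h.l1) (commutator_le.2 c2)) ?_
      obtain ⟨u, hu, huX⟩ := exists_notMem h.i2
      have k1 : ⁅g * u * g⁻¹, y⁆ ∉ W := fun h' => be hy1 hy0 hu huX (by simpa [mul_assoc] using comm_cj' (WP' h'))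
      have k2 := conj_mem_of_nz g2 hu
      rw [← eX1, ← PGrp.sup_zpowers_eq_of_relIndex_prime hp.out iW WP (h.c0 _ (h.l3 k2) y hy) k1, ← hd0]
      exact sup_le (sup_le_sup_left (zpowers_le.2 (commutator_mem_commutator k2 (EN hy))) _)
        ((zpowers_le.2 (commutator_mem_commutator hc hx)).trans le_sup_right)
    rw [← e]; exact mem_nz_sup gW (mem_nz_commutator g2 gN)
  have he : ⁅c, y⁆ ∉ cj g (Ph E) := fun h' => be hy1 hy0 (conj_mem_of_nz' g2 hc)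
    (fun h'' => hc' (by simpa [mul_assoc] using conj_mem_of_nz g1 h'')) (comm_cj' h')
  have heP := h.c0 c (h.l3 hc) y hy
  have heW : ⁅c, y⁆ ∉ W := fun h' => he (WP' h')
  have eW : Ph E ⊓ cj g (Ph E) = W := (PGrp.eq_or_eq_of_relIndex_prime hp.out iW (le_inf WP WP')
    inf_le_left).resolve_right fun e => he (e.ge heP).2
  have cW : ∀ a ∈ X1, ∀ n ∈ N, ⁅a, n⁆ ∈ W := fun a ha n hn => eW.le
    ⟨c1 a ha n hn, comm_cj (c1 _ (conj_mem_of_nz' g1 ha) _ (conj_mem_of_nz' gN hn))⟩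
  -- the subgroup `R`
  obtain ⟨R, nR, RW, R1, R2⟩ : ∃ R : Subgroup G, nz E ≤ nz R ∧ R ≤ W ∧ (∀ u ∈ Ph E, ∀ a ∈ E, ⁅u, a⁆ ∈ R) ∧
      ∀ u ∈ Ph E, u ^ p ∈ R := ⟨Ph (Ph E) ⊔ ⁅Ph E, E⁆, fun a ha => mem_nz_sup (nz_le_nz_Ph _ (nz_le_nz_Ph E ha))
      (mem_nz_commutator (nz_le_nz_Ph E ha) ha), sup_le (Ph_le_of_relIndex (h.pg.to_le (Ph_le E)) WP iW)
      (commutator_le.2 fun a ha b hb => cW a (h.l1 ha) b (EN hb)),
      fun u hu a ha => mem_sup_right (commutator_mem_commutator hu ha),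
      fun u hu => mem_sup_left (pow_mem_Ph (h.pg.to_le (Ph_le E)) hu)⟩
  have NR := NE.trans nR
  have AR := (F.aut_le_nz E).trans nR
  have ER := EN.trans NR
  have hf : ⁅c, d⁆ ∉ R := fun h' => by
    have k0 := comm_sup_ab NR PN (X1N hd) (fun a ha b hb => R1 a ha b (Ph_le E hb)) fun a ha => R1 a ha d (l1 hd)
    have k1 := comm_sup_ab NR (eX1.le.trans X1N) (X2N hc) k0
      (comm_sup NR PN (X1N hd) (X2N hc) (fun a ha => R1 a ha c (h.l3 hc)) (csym h'))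
    rw [eX1, eX2] at k1
    obtain ⟨a, ha, ha'⟩ := SetLike.not_le_iff_exists.1 (h.not_nz2 h5)
    have l2' : cj a X2 ≤ E := (cj_mono h.l3).trans (cj_of_nz ha.1).le
    have k2 : ∀ u ∈ cj a X2, ∀ v ∈ cj a X2, ⁅u, v⁆ ∈ R := fun u hu v hv =>
      (cj_of_nz (AR ha)).le (comm_cj (k1 _ (mem_cj.1 hu) _ (mem_cj.1 hv)))
    have k3 : ¬ X2 ≤ cj a X2 := fun h'' => ha' (mem_nz_iff.2 (eq_of_le_of_card_le h'' (card_cj a _).le).symm)
    have k4 : X2 ⊔ cj a X2 = E := (PGrp.eq_or_eq_of_relIndex_prime hp.out h.i3 le_sup_left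
      (sup_le h.l3 l2')).resolve_left fun e => ha' (mem_nz_of_le (le_sup_right.trans e.le))
    have k5 : (cj a X2).relIndex X2 = p := rel_of_ne pg2 h.l3 (by rw [← h.i3, ← relIndex_cj a X2 E, cj_of_nz ha.1]) k3
    have k6 : X2 ⊓ cj a X2 ≤ E ⊓ trv E R := fun i hi => ⟨h.l3 hi.1, by
      rw [← k4]
      exact mem_trv_sup (mem_trv_comm (ER (h.l3 hi.1)) fun u hu => k1 u hu i hi.1)
        (mem_trv_comm (ER (h.l3 hi.1)) fun u hu => k2 u hu i hi.2) (h.l3.trans ER) (l2'.trans ER)⟩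
    rcases irr (X := E ⊓ trv E R) (fun u hu => ⟨Ph_le E hu, mem_trv_comm (ER (Ph_le E hu)) fun a ha =>
      csym (R1 u hu a ha)⟩) inf_le_left (fun b hb => mem_nz_inf hb.1 (Fusion.mem_nz_trv hb.1 (AR hb))) with e | e
    · have := relIndex_le_of_le_left (k6.trans e.le) (relIndex_ne_zero _ X2)
      rw [inf_relIndex_left, k5, rel2 h.l1 h.l2 h.i1 h.i2] at this
      have h3 := hp.out.one_lt
      nlinarith
    · exact heW (RW (trv_comm (e.ge hy).2 (h.l3 hc)))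
  have hφ : ⁅x, d⁆ ∈ Ph E := csym (c1 d hd x hx)
  obtain ⟨q1, q2, q3, q4, q5⟩ := calcG hp2 ER (Ph_le E) h.c0 R1 R2 (NR hx) hy (h.l3 hc) (l1 hd) hφ
    (by rw [← hc0, commutatorElement_def]; group) (by rw [← hd0, commutatorElement_def]; group)
    (PGrp.conj_eq_commutator_mul x d)
  have fW := W1 c hc d (h.l2 hd)
  have e2W : ⁅y, d⁆ ∈ W := csym (cW d hd y (EN hy))
  generalize hf0 : ⁅c, d⁆ = f at *
  have WE := WP.trans (Ph_le E)
  have i1 := PGrp.relIndex_sup_zpowers hp.out (ER (WE fW)) (R2 f (WP fW)) hf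
  have lR1 : R ⊔ zpowers f ≤ W := sup_le RW (zpowers_le.2 fW)
  have eN := PGrp.sup_zpowers_eq_of_relIndex_prime hp.out iE EN hx hxE
  have T1 : N ≤ trv (R ⊔ zpowers f) R := by
    rw [← eN]
    refine sup_le (fun a ha => mem_trv_comm (ER ha) fun u hu => R1 u (WP (lR1 hu)) a ha) (zpowers_le.2 ?_)
    exact mem_trv_sup (mem_trv_of_le le_rfl (NR hx)) (mem_trv_zpowers (NR hx) (ER (WE fW)) q1) (le_nz R)
      (zpowers_le.2 (ER (WE fW)))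
  have nR1 : N ≤ nz (R ⊔ zpowers f) := T1.trans (trv_le_nz_of_le le_sup_left le_rfl)
  have he2 : ⁅y, d⁆ ∉ R ⊔ zpowers f := fun h' =>
    hf (inv_mem_iff.1 (mem_of_cg_mul (ER (WE e2W)) (q2.trans (trv_cg (T1 hx) h').symm)))
  have fR : f ∈ R ⊔ zpowers f := mem_sup_right (mem_zpowers f)
  have RR : R ≤ R ⊔ zpowers f := le_sup_left
  generalize R ⊔ zpowers f = S1 at *
  have i2 := PGrp.relIndex_sup_zpowers hp.out (nR1 (EN (WE e2W))) (RR (R2 _ (WP e2W))) he2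
  have lR2 : S1 ⊔ zpowers ⁅y, d⁆ ≤ W := sup_le lR1 (zpowers_le.2 e2W)
  have iS : S1.relIndex W = p := by
    have k1 := hs R (Ph E) (PN.trans NS) (RW.trans WP) (PN.trans NR) (fun a ha b hb => R1 a ha b (Ph_le E hb)) R2
    rw [← relIndex_mul_relIndex R W _ RW WP, ← relIndex_mul_relIndex R S1 W RR lR1, i1, iW] at k1
    refine relIndex_eq_of_le (h.pg.to_le WE) ?_ fun h' => he2 (h' e2W)
    have h3 := hp.out.pos
    exact Nat.le_of_mul_le_mul_left (Nat.le_of_mul_le_mul_right (k1.trans_eq (by ring : p ^ 3 = p * p * p)) h3) h3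
  have T2 := comm_of_prime pgN lR1 (WE.trans EN) iS nW nR1
  have iR : R.relIndex (Ph E) = p ^ 3 := rel3 RR lR1 WP i1 iS iW
  have hdp : d ^ p ∉ R := fun h' => by
    rcases irr (X := pwS E R p fun a ha b hb h1 h2 => (cg_mul_pow hp2 (ER ha) (ER hb) (csym (R1 _ (h.c0 b hb a ha) a ha))
      (csym (R1 _ (h.c0 b hb a ha) b hb)) (R2 _ (h.c0 b hb a ha))).mem le_rfl (mul_mem h1 h2))
      (fun u hu => ⟨Ph_le E hu, R2 u hu⟩) (fun _ ha => ha.1) (fun b hb => mem_nz_of_forall fun w hw =>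
        ⟨conj_mem_of_nz hb.1 hw.1, by rw [conj_pow]; exact conj_mem_of_nz (AR hb) hw.2⟩) with e | e
    · exact hd' (e.le ⟨l1 hd, h'⟩)
    · exact (hs.mono NS).false NR PN (EN hy) (nP (EN hy)) (RW.trans WP) iR (fun h'' => hyX (lP h''))
        (fun a ha b hb => R1 a ha b (Ph_le E hb)) (fun a ha => R1 a ha y hy) R2 (e.ge hy).2
  have st : ∀ {U V : Subgroup G} {a b : G}, N ≤ nz V → R ≤ V → b ∈ N → ⁅b, x⁆ ∈ V → Cg R (a⁻¹ * b) (x * b * x⁻¹) →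
      a ∈ V := fun hV hR hb h1 h2 =>
    inv_mem_iff.1 (mem_of_cg_mul (hV hb) ((h2.mono hR).trans (cg_of_comm (hV hb) h1).symm))
  have ypN := EN (pow_mem hy p)
  have cpN := X2N (pow_mem hc p)
  have hyp : y ^ p ∉ W := fun h' => hdp (st (U := ⊥) NR le_rfl cpN
    (trv_comm (T1 hx) (st (U := ⊥) nR1 RR ypN (T2 _ h' x hx) q4)) q5)
  have hdS : d ^ p ∈ S1 := st (U := ⊥) nR1 RR cpN (T2 _ (W2 c hc) x hx) q5
  obtain ⟨w, hw, k, ek⟩ := (PGrp.mem_sup_zpowers_nat (nW (PN heP))).1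
    ((PGrp.sup_zpowers_eq_of_relIndex_prime hp.out iW WP heP heW).ge (pwE y hy))
  have hk : ¬ p ∣ k := fun ⟨j, hj⟩ => hyp (by
    rw [← ek, hj, pow_mul]; exact mul_mem hw (pow_mem (RW (R2 _ heP)) j))
  -- `x ^ p`
  have hxp : Cg W (d ^ k) (x ^ p) := by
    have k1 : c⁻¹ * (g * c * g⁻¹) ∈ X1 := (mem_trv_of_pg h.l2 (X2N.trans n1) h.i2.dvd g2 g1
      (exists_pow_of_S h.sat hg.1)).2 c hc
    have k2 : Cg W (g * ⁅c, y⁆ * g⁻¹) d := by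
      have := conj_mem_of_nz (nW (X2N hc)) (cW _ k1 x hx)
      refine Cg.trans (Cg.of_eq ?_) (Cg.symm (cg_mem_mul this (nW (X1N hd))))
      rw [← hd0, ← hx0]; simp only [commutatorElement_def]; group
    rw [← hx0, conj_pow, ← ek]
    refine Cg.trans (k2.symm.pow (nW (X1N hd)) k) ?_
    rw [conj_pow]
    exact (cg_mem_mul hw (pow_mem (nW (PN heP)) k)).conj gW
  obtain ⟨w', hw', ew⟩ := hxp.exists
  have cX : ∀ a ∈ X2, ∀ b ∈ X2, ⁅a, b⁆ ∈ S1 := by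
    have k0 := comm_sup_ab nR1 PN (X1N hd) (fun a ha b hb => RR (R1 a ha b (Ph_le E hb)))
      fun a ha => RR (R1 a ha d (l1 hd))
    have k1 := comm_sup_ab nR1 (eX1.le.trans X1N) (X2N hc) k0
      (comm_sup nR1 PN (X1N hd) (X2N hc) (fun a ha => RR (R1 a ha c (h.l3 hc))) (csym (hf0 ▸ fR)))
    rwa [eX1, eX2] at k1
  have q6 := calc6 h5 (X2N.trans nR1) cX (nR1 hx) (nR1 (EN hy)) (inv_mem hc) (h.l2 hd) (lP hφ)
    (lP (WP (csym (cW _ (h.l1 hφ) x hx)))) (y := y) (by rw [← hc0, commutatorElement_def]; group)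
    (by
      refine mem_of_eq (cX _ hc _ (inv_mem (h.l2 hd))) ?_
      rw [← hd0]; simp only [commutatorElement_def]; group)
    (Cg.of_eq (PGrp.conj_eq_commutator_mul x d).symm) (Cg.of_eq (PGrp.conj_eq_commutator_mul x _).symm)
    (cg_of_comm (nR1 (PN (WP (csym (cW _ (h.l1 hφ) x hx))))) (T2 _ (csym (cW _ (h.l1 hφ) x hx)) x hx)) hdS
    (RR (R2 _ hφ)) (RR (R2 _ (WP (csym (cW _ (h.l1 hφ) x hx)))))
  have e2P := WP e2W
  have q7 := calc7 (nR1 hx) (nR1 (EN hy)) (nR1 (X2N hc)) (nR1 (X1N hd)) (nR1 (EN (WE hw))) (nR1 (EN (WE hw'))) q6 ew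
    (RR (R1 _ (WP hw') y hy)) (csym (RR (R1 _ (csym e2P) d (l1 hd)))) (q4.mono RR) ek (T2 w hw x hx)
    ((cg_mem_mul (inv_mem fR) (nR1 (PN (mul_mem e2P heP)))).trans (q3.mono RR))
    (RR (R1 _ e2P _ (Ph_le E heP))) (RR (R1 _ (WP hw) _ (Ph_le E e2P)))
  rcases (Nat.Prime.dvd_mul hp.out).1 (PGrp.dvd_of_pow_mem hp.out (RR (R2 _ e2P)) he2 q7) with h' | h'
  · have := Nat.le_of_dvd two_pos h'; omega
  · exact hk h'

end Cfsg.Agent.SR3
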