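import Mathlib
import Cfsg.Agent.SR3.E

/-! Essential subgroups of rank three in sectional rank three are normal: the main theorem. -/

set_option autoImplicit false
set_option linter.unusedSectionVars false

namespace Cfsg.Agent.SR3

open Subgroup Cfsg.Agent.Fusion Cfsg.Agent.Fusion.FS Cfsg.Agent.Inv.Es
open scoped commutatorElement

variable {G : Type*} [Group G] {p : ℕ} [hp : Fact p.Prime] [Finite G] {F : FS G} {E : Subgroup G}

theorem r3_of_sect {P : Subgroup G} (h : PGrp.Sect p 3 P) : R3 p P := fun W K h1 h2 h3 h4 h5 => by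
  have := h (W.subgroupOf P) (K.subgroupOf P) (fun x hx => mem_normalizer_iff.2 fun y => mem_normalizer_iff.1 (h3 hx) y)
    (commutator_le.2 fun a ha b hb => h4 a ha b hb) fun x hx => h5 x hx
  rwa [relIndex_subgroupOf h1] at this

theorem le_nz_of_rank3 (hF : F.Sat p) (hE : F.Ess p E) (hi : (frattini E).index = p ^ 3) (h5 : 5 ≤ p)
    (hs : R3 p F.S) : F.S ≤ nz E := by
  by_contra hn
  obtain ⟨g, hg, hN⟩ := F.exists_FN (P := F.S ⊓ nz E) inf_le_left
  have hfn : F.FN E := hE.2.1
  have e := hfn.cj_NS hg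
  have hE' := hE.cj (F.mono hg (le_NS hE.le)) (hfn.cj_of_NS hg)
  have hi' : (Ph (cj g E)).relIndex (cj g E) = p ^ 3 := by
    rw [relIndex_Ph, ← index_frattini_equiv (cjEquiv g E), hi]
  have hn' : ¬ F.S ≤ nz (cj g E) := fun h' => hn (by
    have : F.S ⊓ nz E = F.S := eq_of_le_of_card_le inf_le_left (by
      rw [← card_cj g (F.S ⊓ nz E), e, inf_eq_left.2 h'])
    exact this.ge.trans inf_le_right)
  rw [e] at hN
  by_cases hT : ∃ L C x, TD p F (cj g E) L C x
  · obtain ⟨L, C, x, h⟩ := hT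
    exact h.false h5 hs hN hn'
  · obtain ⟨X1, X2, h⟩ := exists_JD' hF hE' hi' fun L C x h => hT ⟨L, C, x, h⟩
    exact h.false h5 hs hn'

end Cfsg.Agent.SR3
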